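import Groth.Agent.AvgMap.HomLift
import Groth.Agent.AvgPoint.Lift
/-!
Lifting homomorphisms given on base changes; transporters into subgroups.
-/

set_option autoImplicit false
set_option backward.isDefEq.respectTransparency false
set_option backward.isDefEq.respectTransparency.types false
set_option linter.style.haveILetI false

universe u

open CategoryTheory CategoryTheory.Limits MonoidalCategory CartesianMonoidalCategory MonObj AlgebraicGeometry

noncomputable section

namespace Groth.Agent.AvgMap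

open FixedSmooth RigidMult

variable {R : CommRingCat.{u}} {H K G : Over (Spec R)} [GrpObj H] [GrpObj K] [GrpObj G]

/-- A homomorphism between base changes, as a map from a product. -/
theorem exists_ptHom_of_bc (J : Ideal R)
    (f₀ : Red.bc (Spec.map (CommRingCat.ofHom (Ideal.Quotient.mk J))) H ⟶
      Red.bc (Spec.map (CommRingCat.ofHom (Ideal.Quotient.mk J))) K) [IsMonHom f₀] :
    ∃ u₀ : closedPt J ⊗ H ⟶ K, IsPtHom u₀ ∧ ∀ f : H ⟶ K, snd (closedPt J) H ≫ f = u₀ →
      (Over.pullback (Spec.map (CommRingCat.ofHom (Ideal.Quotient.mk J)))).map f = f₀ := by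
  let t := Spec.map (CommRingCat.ofHom (Ideal.Quotient.mk J))
  let YQ : Over (Spec (CommRingCat.of (R ⧸ J))) := Over.mk (fst (closedPt J) H).left
  let eQ : (Over.map t).obj YQ ≅ closedPt J ⊗ H := Over.isoMk (Iso.refl _) (by
    show 𝟙 _ ≫ (closedPt J ⊗ H).hom = (fst (closedPt J) H).left ≫ t
    rw [Category.id_comp]
    exact (Over.w (fst (closedPt J) H)).symm)
  let u₀ : closedPt J ⊗ H ⟶ K :=
    eQ.inv ≫ (adjEquiv t K YQ).symm (adjEquiv t H YQ (eQ.hom ≫ snd (closedPt J) H) ≫ f₀)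
  let str : ∀ Y : Over (Spec (CommRingCat.of (R ⧸ J))), (Over.map t).obj Y ⟶ closedPt J := fun Y =>
    Over.homMk Y.hom rfl
  have key : ∀ (Y : Over (Spec (CommRingCat.of (R ⧸ J)))) (h : (Over.map t).obj Y ⟶ H),
      lift (str Y) h ≫ u₀ = (adjEquiv t K Y).symm (adjEquiv t H Y h ≫ f₀) := fun Y h => by
    let k : Y ⟶ YQ := Over.homMk (lift (str Y) h).left
      (congrArg CommaMorphism.left (lift_fst (str Y) h))
    have hk : (Over.map t).map k ≫ eQ.hom = lift (str Y) h := Over.OverMorphism.ext (Category.comp_id _)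
    have hk' : lift (str Y) h ≫ eQ.inv = (Over.map t).map k := by rw [← hk, Category.assoc, Iso.hom_inv_id, Category.comp_id]
    have hd : k ≫ adjEquiv t H YQ (eQ.hom ≫ snd (closedPt J) H) = adjEquiv t H Y h := by
      show k ≫ (Over.mapPullbackAdj t).homEquiv YQ H _ = (Over.mapPullbackAdj t).homEquiv Y H h
      rw [← Adjunction.homEquiv_naturality_left, reassoc_of% hk, lift_snd]
    show lift (str Y) h ≫ eQ.inv ≫ _ = _
    rw [← Category.assoc, hk', ← hd, Category.assoc]
    exact ((Over.mapPullbackAdj t).homEquiv_naturality_left_symm _ _).symm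
  refine ⟨u₀, fun X s a b => ?_, fun f hf => ?_⟩
  · let Y : Over (Spec (CommRingCat.of (R ⧸ J))) := Over.mk s.left
    let e : (Over.map t).obj Y ≅ X := Over.isoMk (Iso.refl _) (by
      show 𝟙 _ ≫ X.hom = s.left ≫ t
      rw [Category.id_comp]
      exact (Over.w s).symm)
    rw [← cancel_epi e.hom, MonObj.comp_mul]
    simp only [← Category.assoc, comp_lift, MonObj.comp_mul, closedPt_hom_ext J (e.hom ≫ s) (str Y), key, map_mul,
      MonObj.mul_comp]
  · let Y := Red.bc t H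
    have h1 := adjEquiv_comp (G := K) t f (Y := Y) ((adjEquiv t H Y).symm (𝟙 Y))
    have h2 : (adjEquiv t H Y).symm (𝟙 Y) ≫ f = (adjEquiv t K Y).symm f₀ := by
      have e := key Y ((adjEquiv t H Y).symm (𝟙 Y))
      rw [← hf, lift_snd_assoc, MulEquiv.apply_symm_apply, Category.id_comp] at e
      exact e
    rw [h2, MulEquiv.apply_symm_apply, MulEquiv.apply_symm_apply, Category.id_comp] at h1
    exact h1.symm

/-- Transporters into smooth subgroups lift along nilpotent thickenings. -/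
theorem exists_transporter_lift_smooth (hH : TrivAct.HasSplitCovers H) [IsAffineHom H.hom] [Smooth G.hom]
    [Smooth K.hom] (J : Ideal R) (hJ : IsNilpotent J) (u : H ⟶ G) [IsMonHom u] (k : K ⟶ G) [IsMonHom k] [Mono k]
    (g₀ : closedPt J ⟶ G) (h0 : Contain u k g₀) :
    ∃ g : 𝟙_ (Over (Spec R)) ⟶ G, toUnit (closedPt J) ≫ g = g₀ ∧
      ∀ (X : Over (Spec R)) (h : X ⟶ H), ∃ x : X ⟶ K, (toUnit X ≫ g) * (h ≫ u) * (toUnit X ≫ g)⁻¹ = x ≫ k := by
  obtain ⟨u₀, hu₀⟩ := h0 (closedPt J ⊗ H) (fst _ _) (snd _ _)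
  have hpt : ∀ (X : Over (Spec R)) (s : X ⟶ closedPt J) (h : X ⟶ H),
      (lift s h ≫ u₀) ≫ k = (s ≫ g₀) * (h ≫ u) * (s ≫ g₀)⁻¹ := fun X s h => by
    have := congrArg (lift s h ≫ ·) hu₀
    simp only [MonObj.comp_mul, GrpObj.comp_inv, lift_fst_assoc, lift_snd_assoc] at this
    rw [Category.assoc]
    exact this.symm
  obtain ⟨φ, hφ, hφu⟩ := exists_hom_lift hH J hJ u₀ (fun X s a b => by
    rw [← cancel_mono k, MonObj.mul_comp, hpt, hpt, hpt, MonObj.mul_comp]
    group)
  haveI := hφ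
  obtain ⟨g, hg, hgc⟩ := AvgPoint.exists_conj_lift hH J hJ u (φ ≫ k) g₀ (fun X p h => by
    rw [← hpt X p h, ← hφu, lift_snd_assoc, Category.assoc])
  exact ⟨g, hg, fun X h => ⟨h ≫ φ, by rw [Category.assoc]; exact (hgc X h).symm⟩⟩

/-- Transporters into subgroups of multiplicative type lift along nilpotent thickenings. -/
theorem exists_transporter_lift_mult (hH : TrivAct.HasSplitCovers H) (hK : TrivAct.HasSplitCovers K)
    [IsAffineHom H.hom] [Smooth G.hom] (J : Ideal R) (hJ : IsNilpotent J) (u : H ⟶ G) [IsMonHom u] (k : K ⟶ G)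
    [IsMonHom k] [Mono k] (g₀ : closedPt J ⟶ G) (h0 : Contain u k g₀) :
    ∃ g : 𝟙_ (Over (Spec R)) ⟶ G, toUnit (closedPt J) ≫ g = g₀ ∧
      ∀ (X : Over (Spec R)) (h : X ⟶ H), ∃ x : X ⟶ K, (toUnit X ≫ g) * (h ≫ u) * (toUnit X ≫ g)⁻¹ = x ≫ k := by
  obtain ⟨φ, hφ, cφ⟩ := exists_rigid_lift hH hK J hJ u k g₀ h0
  haveI := hφ
  obtain ⟨g, hg, hgc⟩ := AvgPoint.exists_conj_lift hH J hJ u (φ ≫ k) g₀ (fun X p h => by
    rw [← Category.assoc]; exact (cφ X p h).symm)
  exact ⟨g, hg, fun X h => ⟨h ≫ φ, by rw [Category.assoc]; exact (hgc X h).symm⟩⟩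

end Groth.Agent.AvgMap
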