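import Mathlib
/-!
An equalizer of two ring maps which is surjective on spectra is a coequalizer for maps to schemes of a given
underlying map.
-/

set_option autoImplicit false
set_option backward.isDefEq.respectTransparency false
set_option backward.isDefEq.respectTransparency.types false
set_option linter.style.haveILetI false

universe u

open CategoryTheory CategoryTheory.Limits AlgebraicGeometry

noncomputable section

namespace Groth.Agent.AvgMap

/-- The localisation map on a basic open. -/
abbrev loc {A : CommRingCat.{u}} (f : A) : A ⟶ CommRingCat.of (Localization.Away f) :=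
  CommRingCat.ofHom (algebraMap A (Localization.Away f))

instance {A : CommRingCat.{u}} (f : A) : IsOpenImmersion (Spec.map (loc f)) :=
  IsOpenImmersion.of_isLocalization f

theorem range_loc {A : CommRingCat.{u}} (f : A) :
    Set.range (Spec.map (loc f)) = (PrimeSpectrum.basicOpen f : Set (PrimeSpectrum A)) :=
  PrimeSpectrum.localization_away_comap_range (Localization.Away f) f

theorem exists_basicOpen_subset {A : CommRingCat.{u}} (t : Spec A) (U : (Spec A).Opens) (ht : t ∈ U) :
    ∃ f : A, t ∈ Set.range (Spec.map (loc f)) ∧ Set.range (Spec.map (loc f)) ⊆ (U : Set (Spec A)) := by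
  obtain ⟨_, ⟨_, ⟨f, rfl⟩, rfl⟩, htf, hf⟩ :=
    PrimeSpectrum.isBasis_basic_opens.exists_subset_of_mem_open (α := PrimeSpectrum A) ht U.2
  refine ⟨f, ?_, ?_⟩ <;> rw [range_loc]
  · exact htf
  · exact hf

variable {A C : CommRingCat.{u}} (j : A ⟶ C)

/-- The induced map of localisations. -/
abbrev jf (f : A) : CommRingCat.of (Localization.Away f) ⟶ CommRingCat.of (Localization.Away (j.hom f)) :=
  CommRingCat.ofHom (IsLocalization.Away.map (Localization.Away f) (Localization.Away (j.hom f)) j.hom f)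

theorem jf_algebraMap (f a : A) :
    (jf j f).hom (algebraMap A (Localization.Away f) a) = algebraMap C (Localization.Away (j.hom f)) (j.hom a) := by
  show IsLocalization.Away.map _ _ j.hom f _ = _
  simp [IsLocalization.Away.map]

theorem loc_jf (f : A) : loc f ≫ jf j f = j ≫ loc (j.hom f) :=
  CommRingCat.hom_ext (RingHom.ext fun a => jf_algebraMap j f a)

theorem jf_injective (hj : Function.Injective j.hom) (f : A) : Function.Injective (jf j f).hom := by
  refine (injective_iff_map_eq_zero _).2 fun x hx => ?_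
  obtain ⟨⟨a, ⟨_, n, rfl⟩⟩, ha⟩ := IsLocalization.surj (Submonoid.powers f) x
  have h := congrArg (jf j f).hom ha
  rw [map_mul, hx, MulZeroClass.zero_mul, jf_algebraMap] at h
  obtain ⟨⟨_, m, rfl⟩, hm⟩ := (IsLocalization.map_eq_zero_iff (Submonoid.powers (j.hom f)) _ _).1 h.symm
  have h0 : f ^ m * a = 0 := hj (by simpa [map_mul, map_pow] using hm)
  have h1 : algebraMap A (Localization.Away f) (f ^ m) * algebraMap A _ (f ^ n) * x = 0 := by
    rw [mul_assoc, mul_comm _ x, ha, ← map_mul]
    simp [h0]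
  exact ((IsLocalization.map_units _ (⟨f ^ m, m, rfl⟩ : Submonoid.powers f)).mul
    (IsLocalization.map_units _ (⟨f ^ n, n, rfl⟩ : Submonoid.powers f))).mul_right_eq_zero.1 h1

theorem exists_comp (f u : A) (w : CommRingCat.of (Localization.Away f) ⟶ CommRingCat.of (Localization.Away (j.hom u)))
    (hw : loc f ≫ w = j ≫ loc (j.hom u)) :
    ∃ v : CommRingCat.of (Localization.Away (j.hom f)) ⟶ CommRingCat.of (Localization.Away (j.hom u)),
      loc (j.hom f) ≫ v = loc (j.hom u) ∧ jf j f ≫ v = w := by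
  let wr : Localization.Away f →+* Localization.Away (j.hom u) := w.hom
  have hwr : ∀ a, wr (algebraMap A (Localization.Away f) a) = algebraMap C _ (j.hom a) := fun a =>
    congrArg (fun m => m.hom a) hw
  have hvu : IsUnit (algebraMap C (Localization.Away (j.hom u)) (j.hom f)) := by
    rw [← hwr]
    exact (IsLocalization.Away.algebraMap_isUnit f).map wr
  let v : Localization.Away (j.hom f) →+* Localization.Away (j.hom u) := IsLocalization.Away.lift (j.hom f) hvu
  have hv : ∀ c, v (algebraMap C (Localization.Away (j.hom f)) c) = algebraMap C _ c := fun c =>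
    IsLocalization.Away.lift_eq (j.hom f) hvu c
  refine ⟨CommRingCat.ofHom v, CommRingCat.hom_ext (RingHom.ext hv), CommRingCat.hom_ext ?_⟩
  let m : Localization.Away f →+* Localization.Away (j.hom f) := (jf j f).hom
  show v.comp m = wr
  refine IsLocalization.ringHom_ext (Submonoid.powers f) (RingHom.ext fun a => ?_)
  show v (m (algebraMap A _ a)) = wr (algebraMap A _ a)
  rw [hwr, show m (algebraMap A _ a) = algebraMap C _ (j.hom a) from jf_algebraMap j f a, hv]

variable {Y : Scheme.{u}}

/-- Two maps agree if they agree on `Spec C`. -/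
theorem desc_ext (hj : Function.Injective j.hom) (hs : Function.Surjective (Spec.map j)) {u v : Spec A ⟶ Y}
    (h : Spec.map j ≫ u = Spec.map j ≫ v) : u = v := by
  refine Scheme.hom_ext_of_forall _ _ fun t => ?_
  have htop : ∀ t, u t = v t := fun t => by
    obtain ⟨c, rfl⟩ := hs t
    rw [← Scheme.Hom.comp_apply, h, Scheme.Hom.comp_apply]
  obtain ⟨W, hW, htW, -⟩ := exists_isAffineOpen_mem_and_subset (x := u t) (U := ⊤) trivial
  obtain ⟨f, htf, hf⟩ := exists_basicOpen_subset t (u ⁻¹ᵁ W) htW
  refine ⟨(Spec.map (loc f)).opensRange, htf, ?_⟩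
  have hu : Set.range (Spec.map (loc f) ≫ u) ⊆ Set.range hW.fromSpec := by
    rw [hW.range_fromSpec]
    rintro _ ⟨p, rfl⟩
    rw [Scheme.Hom.comp_apply]
    exact hf ⟨p, rfl⟩
  have hv : Set.range (Spec.map (loc f) ≫ v) ⊆ Set.range hW.fromSpec := by
    rw [hW.range_fromSpec]
    rintro _ ⟨p, rfl⟩
    rw [Scheme.Hom.comp_apply, ← htop]
    exact hf ⟨p, rfl⟩
  obtain ⟨a, ha⟩ := Spec.map_surjective (IsOpenImmersion.lift hW.fromSpec _ hu)
  obtain ⟨b, hb⟩ := Spec.map_surjective (IsOpenImmersion.lift hW.fromSpec _ hv)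
  have ha' : Spec.map a ≫ hW.fromSpec = Spec.map (loc f) ≫ u := by rw [ha, IsOpenImmersion.lift_fac]
  have hb' : Spec.map b ≫ hW.fromSpec = Spec.map (loc f) ≫ v := by rw [hb, IsOpenImmersion.lift_fac]
  have e : a ≫ jf j f = b ≫ jf j f := Spec.map_injective ((cancel_mono hW.fromSpec).1 (by
    rw [Spec.map_comp, Spec.map_comp, Category.assoc, Category.assoc, ha', hb', ← Category.assoc, ← Category.assoc,
      ← Spec.map_comp, loc_jf, Spec.map_comp, Category.assoc, Category.assoc, h]))
  have eab : a = b := CommRingCat.hom_ext (RingHom.ext fun c => jf_injective j hj f (congrArg (fun m => m.hom c) e))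
  rw [← cancel_epi (Spec.map (loc f)).isoOpensRange.hom, Scheme.Hom.isoOpensRange_hom_ι_assoc,
    Scheme.Hom.isoOpensRange_hom_ι_assoc, ← ha', ← hb', eab]

/-- Maps from `Spec C` which agree on the two projections descend to the equalizer. -/
theorem exists_desc {C₀ : CommRingCat.{u}} (p p' : C ⟶ C₀) (hp : j ≫ p = j ≫ p')
    (hA : ∀ c, p.hom c = p'.hom c → c ∈ Set.range j.hom) (hj : Function.Injective j.hom)
    (hs : Function.Surjective (Spec.map j)) (y : Spec C ⟶ Y) (hy : Spec.map p ≫ y = Spec.map p' ≫ y)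
    (y₀ : Spec A ⟶ Y) (htop : ∀ t, y t = y₀ (Spec.map j t)) : ∃ y' : Spec A ⟶ Y, Spec.map j ≫ y' = y := by
  have hch : ∀ t : Spec A, ∃ f : A, t ∈ Set.range (Spec.map (loc f)) ∧
      ∃ g : Spec (CommRingCat.of (Localization.Away f)) ⟶ Y,
        Spec.map (jf j f) ≫ g = Spec.map (loc (j.hom f)) ≫ y := fun t => by
    obtain ⟨W, hW, htW, -⟩ := exists_isAffineOpen_mem_and_subset (x := y₀ t) (U := ⊤) trivial
    obtain ⟨f, htf, hf⟩ := exists_basicOpen_subset t (y₀ ⁻¹ᵁ W) htW
    refine ⟨f, htf, ?_⟩
    have hr : Set.range (Spec.map (loc (j.hom f)) ≫ y) ⊆ Set.range hW.fromSpec := by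
      rw [hW.range_fromSpec]
      rintro _ ⟨s, rfl⟩
      rw [Scheme.Hom.comp_apply, htop]
      have e : Spec.map j (Spec.map (loc (j.hom f)) s) = Spec.map (loc f) (Spec.map (jf j f) s) := by
        rw [← Scheme.Hom.comp_apply, ← Scheme.Hom.comp_apply, ← Spec.map_comp, ← Spec.map_comp, loc_jf]
      rw [e]
      exact hf ⟨_, rfl⟩
    obtain ⟨ψ, hψ⟩ := Spec.map_surjective (IsOpenImmersion.lift hW.fromSpec _ hr)
    have hψ' : Spec.map ψ ≫ hW.fromSpec = Spec.map (loc (j.hom f)) ≫ y := by
      rw [hψ, IsOpenImmersion.lift_fac]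
    let f₀ := p.hom (j.hom f)
    have hf₀ : p'.hom (j.hom f) = f₀ := (congrArg (fun m => m.hom f) hp).symm
    let P : Localization.Away (j.hom f) →+* Localization.Away f₀ :=
      IsLocalization.Away.map _ _ p.hom (j.hom f)
    let P' : Localization.Away (j.hom f) →+* Localization.Away f₀ :=
      IsLocalization.Away.lift (j.hom f) (g := (algebraMap C₀ (Localization.Away f₀)).comp p'.hom) (by
        rw [RingHom.comp_apply, hf₀]; exact IsLocalization.Away.algebraMap_isUnit _)
    have hP : ∀ c, P (algebraMap C _ c) = algebraMap C₀ _ (p.hom c) := fun c => IsLocalization.map_eq _ _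
    have hP' : ∀ c, P' (algebraMap C _ c) = algebraMap C₀ _ (p'.hom c) := fun c =>
      IsLocalization.Away.lift_eq (j.hom f) _ c
    have hψP : ψ ≫ CommRingCat.ofHom P = ψ ≫ CommRingCat.ofHom P' := by
      refine Spec.map_injective ((cancel_mono hW.fromSpec).1 ?_)
      have e1 : loc (j.hom f) ≫ CommRingCat.ofHom P = p ≫ loc f₀ := CommRingCat.hom_ext (RingHom.ext hP)
      have e2 : loc (j.hom f) ≫ CommRingCat.ofHom P' = p' ≫ loc f₀ := CommRingCat.hom_ext (RingHom.ext hP')
      rw [Spec.map_comp, Spec.map_comp, Category.assoc, Category.assoc, hψ', ← Category.assoc, ← Category.assoc,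
        ← Spec.map_comp, ← Spec.map_comp, e1, e2, Spec.map_comp, Spec.map_comp, Category.assoc, Category.assoc, hy]
    have hmem : ∀ c, ∃ a, (jf j f).hom a = ψ.hom c := fun c => by
      obtain ⟨⟨x, s, hs'⟩, hx⟩ := IsLocalization.surj (Submonoid.powers (j.hom f)) (ψ.hom c)
      obtain ⟨n, rfl⟩ := hs'
      simp only at hx
      have e : P (algebraMap C _ x) = P' (algebraMap C _ x) := by
        have h1 : P (ψ.hom c) = P' (ψ.hom c) := congrArg (fun m => m.hom c) hψP
        rw [← hx, map_mul P, map_mul P', h1, hP, hP', map_pow p.hom, map_pow p'.hom, hf₀]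
      rw [hP, hP'] at e
      obtain ⟨⟨_, m, rfl⟩, hm⟩ :=
        IsLocalization.exists_of_eq (M := Submonoid.powers f₀) (S := Localization.Away f₀) e
      simp only at hm
      obtain ⟨a, ha⟩ := hA ((j.hom f) ^ m * x) (by rw [map_mul, map_mul, map_pow, map_pow, hf₀]; exact hm)
      refine ⟨IsLocalization.mk' (Localization.Away f) a (⟨f ^ (m + n), m + n, rfl⟩ : Submonoid.powers f), ?_⟩
      let z : Submonoid.powers f := ⟨f ^ (m + n), m + n, rfl⟩
      have hz := congrArg (jf j f).hom (IsLocalization.mk'_spec (Localization.Away f) a z)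
      rw [map_mul, jf_algebraMap, jf_algebraMap] at hz
      have hu : IsUnit (algebraMap C (Localization.Away (j.hom f)) (j.hom (f ^ (m + n)))) :=
        IsLocalization.map_units _ (⟨_, m + n, (map_pow _ _ _).symm⟩ : Submonoid.powers (j.hom f))
      refine hu.mul_left_injective ?_
      show _ * _ = _ * _
      refine hz.trans ?_
      rw [ha, map_mul, ← hx, map_pow, pow_add, map_mul]
      simp only [map_pow, map_mul]
      ring
    choose a ha using hmem
    have hinj := jf_injective j hj f
    let ψ' : Γ(Y, W) ⟶ CommRingCat.of (Localization.Away f) := CommRingCat.ofHom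
      { toFun := a
        map_one' := hinj (by rw [ha, map_one, map_one])
        map_mul' := fun x z => hinj (by rw [ha, map_mul, map_mul, ha, ha])
        map_zero' := hinj (by rw [ha, map_zero, map_zero])
        map_add' := fun x z => hinj (by rw [ha, map_add, map_add, ha, ha]) }
    refine ⟨Spec.map ψ' ≫ hW.fromSpec, ?_⟩
    rw [← Category.assoc, ← Spec.map_comp, show ψ' ≫ jf j f = ψ from CommRingCat.hom_ext (RingHom.ext ha), hψ']
  choose f htf g hg using hch
  let 𝒰 : (Spec A).OpenCover := Scheme.openCoverOfIsOpenCover (Spec A)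
    (fun t => (Spec.map (loc (f t))).opensRange)
    (eq_top_iff.2 fun t _ => TopologicalSpace.Opens.mem_iSup.2 ⟨t, htf t⟩)
  let G : ∀ t, 𝒰.X t ⟶ Y := fun t => (Spec.map (loc (f t))).isoOpensRange.inv ≫ g t
  have key : ∀ (t t' : Spec A) (u : A) (r : Spec (CommRingCat.of (Localization.Away u)) ⟶ 𝒰.X t)
      (r' : Spec (CommRingCat.of (Localization.Away u)) ⟶ 𝒰.X t'),
      r ≫ 𝒰.f t = Spec.map (loc u) → r' ≫ 𝒰.f t' = Spec.map (loc u) → r ≫ G t = r' ≫ G t' :=
    fun t t' u r r' hr hr' => by
    refine desc_ext (jf j u) (jf_injective j hj u) (fun s => ?_) ?_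
    · obtain ⟨c, hc⟩ := hs (Spec.map (loc u) s)
      obtain ⟨d, hd⟩ : c ∈ Set.range (Spec.map (loc (j.hom u))) := by
        rw [range_loc]
        show j.hom u ∉ c.asIdeal
        have hmem : Spec.map (loc u) s ∈ Set.range (Spec.map (loc u)) := ⟨s, rfl⟩
        rw [range_loc, ← hc] at hmem
        exact hmem
      refine ⟨d, (Spec.map (loc u)).isOpenEmbedding.injective ?_⟩
      rw [← Scheme.Hom.comp_apply, ← Spec.map_comp, loc_jf, Spec.map_comp, Scheme.Hom.comp_apply, hd, hc]
    · have main : ∀ (t : Spec A) (r : Spec (CommRingCat.of (Localization.Away u)) ⟶ 𝒰.X t),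
          r ≫ 𝒰.f t = Spec.map (loc u) → Spec.map (jf j u) ≫ r ≫ G t = Spec.map (loc (j.hom u)) ≫ y := by
        intro t r hr
        let r₁ := r ≫ (Spec.map (loc (f t))).isoOpensRange.inv
        have e0 : (Spec.map (loc (f t))).isoOpensRange.inv ≫ Spec.map (loc (f t)) = 𝒰.f t := by
          rw [Iso.inv_comp_eq]
          exact (Scheme.Hom.isoOpensRange_hom_ι _).symm
        have e1 : Spec.map (jf j u) ≫ r₁ ≫ Spec.map (loc (f t)) = Spec.map (loc (j.hom u)) ≫ Spec.map j := by
          simp only [r₁, Category.assoc]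
          rw [e0, hr, ← Spec.map_comp, loc_jf, Spec.map_comp]
        obtain ⟨w, hw⟩ := Spec.map_surjective (Spec.map (jf j u) ≫ r₁)
        have hw2 : loc (f t) ≫ w = j ≫ loc (j.hom u) := Spec.map_injective (by
          rw [Spec.map_comp, Spec.map_comp, hw, Category.assoc, e1])
        obtain ⟨v, hv, hvw⟩ := exists_comp j (f t) u w hw2
        show Spec.map (jf j u) ≫ r ≫ _ ≫ g t = _
        rw [← Category.assoc r, ← Category.assoc, ← hw, ← hvw, Spec.map_comp, Category.assoc, hg, ← Category.assoc,
          ← Spec.map_comp, hv]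
      rw [main t r hr, main t' r' hr']
  refine ⟨𝒰.glueMorphisms G (fun t t' => ?_), ?_⟩
  · refine Scheme.hom_ext_of_forall _ _ fun z => ?_
    let q := pullback.fst (𝒰.f t) (𝒰.f t') ≫ 𝒰.f t
    haveI : IsOpenImmersion q := inferInstance
    obtain ⟨u, hzu, hu⟩ := exists_basicOpen_subset (q z) q.opensRange ⟨z, rfl⟩
    let r := IsOpenImmersion.lift q (Spec.map (loc u)) hu
    have hr : r ≫ q = Spec.map (loc u) := IsOpenImmersion.lift_fac _ _ _
    haveI : IsOpenImmersion r := by
      haveI : IsOpenImmersion (r ≫ q) := by rw [hr]; infer_instance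
      exact IsOpenImmersion.of_comp r q
    refine ⟨r.opensRange, ?_, ?_⟩
    · obtain ⟨p, hp⟩ := hzu
      exact ⟨p, q.isOpenEmbedding.injective (by rw [← Scheme.Hom.comp_apply, hr]; exact hp)⟩
    rw [← cancel_epi r.isoOpensRange.hom, Scheme.Hom.isoOpensRange_hom_ι_assoc, Scheme.Hom.isoOpensRange_hom_ι_assoc]
    refine (Category.assoc _ _ _).symm.trans
      ((key t t' u _ _ ((Category.assoc _ _ _).trans hr) ?_).trans (Category.assoc _ _ _))
    rw [Category.assoc, ← pullback.condition]
    exact hr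
  · refine Scheme.hom_ext_of_forall _ _ fun c => ?_
    let t := Spec.map j c
    refine ⟨(Spec.map (loc (j.hom (f t)))).opensRange, ?_, ?_⟩
    · show c ∈ Set.range (Spec.map (loc (j.hom (f t))))
      rw [range_loc]
      show j.hom (f t) ∉ c.asIdeal
      have h0 : t ∈ Set.range (Spec.map (loc (f t))) := htf t
      rw [range_loc] at h0
      exact h0
    rw [← cancel_epi (Spec.map (loc (j.hom (f t)))).isoOpensRange.hom, Scheme.Hom.isoOpensRange_hom_ι_assoc,
      Scheme.Hom.isoOpensRange_hom_ι_assoc, ← hg, ← Category.assoc, ← Spec.map_comp, ← loc_jf, Spec.map_comp,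
      Category.assoc]
    congr 1
    have e : Spec.map (loc (f t)) = (Spec.map (loc (f t))).isoOpensRange.hom ≫ 𝒰.f t :=
      (Scheme.Hom.isoOpensRange_hom_ι _).symm
    rw [e, Category.assoc, Scheme.Cover.ι_glueMorphisms]
    exact Iso.hom_inv_id_assoc _ _

end Groth.Agent.AvgMap
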