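import Groth.Agent.AvgMap.Value
/-!
Homomorphisms from groups of multiplicative type into smooth groups lift along nilpotent thickenings.
-/

set_option autoImplicit false
set_option backward.isDefEq.respectTransparency false
set_option backward.isDefEq.respectTransparency.types false
set_option linter.style.haveILetI false

universe u

open CategoryTheory CategoryTheory.Limits MonoidalCategory CartesianMonoidalCategory MonObj AlgebraicGeometry

noncomputable section

namespace Groth.Agent.AvgMap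

open FixedSmooth RigidMult

/-- The pullback of a cover. -/
theorem exists_pull_cover {B B' : CommRingCat.{u}} (P : Cover B) (g : Spec B' ⟶ Spec B) :
    ∃ P' : Cover B', ∀ i, ∃ (k : P.κ) (a : P.ring k ⟶ P'.ring i),
      Spec.map a ≫ Spec.map (P.map k) = Spec.map (P'.map i) ≫ g := by
  let T : P.κ → Scheme.{u} := fun k => pullback (Spec.map (P.map k)) g
  haveI : ∀ k, IsAffine (T k) := fun k => inferInstanceAs (IsAffine (pullback _ _))
  refine ⟨{ κ := P.κ
            ring := fun k => Γ(T k, ⊤)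
            map := fun k => Spec.preimage ((T k).isoSpec.inv ≫ pullback.snd _ g)
            flat := fun k => by
              rw [Spec.map_preimage]
              infer_instance
            surj := fun t => by
              obtain ⟨k, p, hp⟩ := P.surj (g t)
              obtain ⟨z, -, hz⟩ := Scheme.Pullback.exists_preimage_pullback (f := Spec.map (P.map k)) (g := g) p t hp
              refine ⟨k, (T k).isoSpec.hom z, ?_⟩
              rw [Spec.map_preimage, ← Scheme.Hom.comp_apply, Iso.hom_inv_id_assoc, hz] }, fun k =>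
    ⟨k, Spec.preimage ((T k).isoSpec.inv ≫ pullback.fst _ g), ?_⟩⟩
  rw [Spec.map_preimage, Spec.map_preimage, Category.assoc, Category.assoc, pullback.condition]

variable {R : CommRingCat.{u}} {H K : Over (Spec R)} [GrpObj H] [GrpObj K]

/-- It is enough to test on points over affine schemes over which the group splits. -/
theorem ext_split (hH : TrivAct.HasSplitCovers H) {X Y : Over (Spec R)} {f₁ f₂ : X ⟶ Y}
    (h : ∀ (B : CommRingCat.{u}) (q : Spec B ⟶ Spec R) (M : Type) [AddCommGroup M], Split H q M →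
      ∀ w : Over.mk q ⟶ X, w ≫ f₁ = w ≫ f₂) : f₁ = f₂ := by
  refine hom_ext_affine _ _ fun B p w => Over.OverMorphism.ext ?_
  obtain ⟨P, hP⟩ := exists_split_cover hH hH p
  refine P.ext _ _ fun k => ?_
  obtain ⟨M, _, -, -, ⟨σ⟩, -⟩ := hP k
  exact congrArg CommaMorphism.left
    (h _ _ M σ ((Over.homMk (Spec.map (P.map k)) rfl : Over.mk (Spec.map (P.map k) ≫ p) ⟶ Over.mk p) ≫ w))

/-- A homomorphism modulo `J` is congruent to a homomorphism modulo `J ^ 2`. -/
theorem exists_step (hH : TrivAct.HasSplitCovers H) [IsAffineHom H.hom] (J : Ideal R) (f : H ⟶ K) (hf : HomMod J f) :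
    ∃ θ : closedPt (J ^ 2) ⊗ H ⟶ K, IsPtHom θ ∧
      ∀ (X : Over (Spec R)) (_ : X ⟶ closedPt J) (k₂ : X ⟶ closedPt (J ^ 2)) (h : X ⟶ H),
        lift k₂ h ≫ θ = h ≫ f := by
  let Q : Over (Spec R) := closedPt (J ^ 2) ⊗ H
  haveI : IsAffineHom (pullback.fst (Spec.map (CommRingCat.ofHom (Ideal.Quotient.mk (J ^ 2)))) H.hom) :=
    MorphismProperty.pullback_fst _ _ inferInstance
  haveI : IsAffine Q.left :=
    isAffine_of_isAffineHom (pullback.fst (Spec.map (CommRingCat.ofHom (Ideal.Quotient.mk (J ^ 2)))) H.hom)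
  let C : CommRingCat.{u} := Γ(Q.left, ⊤)
  let q₀ : Spec C ⟶ Spec R := Q.left.isoSpec.inv ≫ Q.hom
  let c : Over.mk q₀ ⟶ Q := Over.homMk Q.left.isoSpec.inv rfl
  let c' : Q ⟶ Over.mk q₀ := Over.homMk Q.left.isoSpec.hom (by
    show Q.left.isoSpec.hom ≫ Q.left.isoSpec.inv ≫ Q.hom = Q.hom
    rw [Iso.hom_inv_id_assoc])
  have hcc : c' ≫ c = 𝟙 Q := Over.OverMorphism.ext (Iso.hom_inv_id _)
  obtain ⟨P, hP⟩ := exists_split_cover hH hH q₀
  choose M instM M' instM' hσ hσ' using hP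
  letI := instM
  let σ : ∀ k, Split H (Spec.map (P.map k) ≫ q₀) (M k) := fun k => Classical.choice (hσ k)
  let rp₀ : ∀ k, Over.mk (Spec.map (P.map k) ≫ q₀) ⟶ Over.mk q₀ := fun k => Over.homMk (Spec.map (P.map k)) rfl
  have hq : ∀ k, J ^ 2 ≤ RingHom.ker (Spec.preimage (Spec.map (P.map k) ≫ q₀)).hom := fun k =>
    le_ker_of_hom (rp₀ k ≫ c ≫ fst (closedPt (J ^ 2)) H)
  let fk : ∀ k, Over.mk (Spec.map (P.map k) ≫ q₀) ⟶ K := fun k =>
    V hf (hq k) (σ k) (rp₀ k ≫ c ≫ snd (closedPt (J ^ 2)) H)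
  obtain ⟨F, hF⟩ := P.desc (fun k => (fk k).left) (fun k l B' a b hab => by
    let q' : Spec B' ⟶ Spec R := Spec.map a ≫ Spec.map (P.map k) ≫ q₀
    let ea : Over.mk q' ⟶ Over.mk (Spec.map (P.map k) ≫ q₀) := Over.homMk (Spec.map a) rfl
    let eb : Over.mk q' ⟶ Over.mk (Spec.map (P.map l) ≫ q₀) := Over.homMk (Spec.map b) (by
      show Spec.map b ≫ Spec.map (P.map l) ≫ q₀ = Spec.map a ≫ Spec.map (P.map k) ≫ q₀
      rw [← Category.assoc, ← Category.assoc (Spec.map a), ← Spec.map_comp, ← Spec.map_comp, hab])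
    have e1 : eb ≫ rp₀ l = ea ≫ rp₀ k := by
      apply Over.OverMorphism.ext
      show Spec.map b ≫ Spec.map (P.map l) = Spec.map a ≫ Spec.map (P.map k)
      rw [← Spec.map_comp, ← Spec.map_comp, hab]
    let σa : Split H q' (M k) := (σ k).comp (Spec.map a) rfl
    have hq' : J ^ 2 ≤ RingHom.ker (Spec.preimage q').hom :=
      le_ker_of_hom (ea ≫ rp₀ k ≫ c ≫ fst (closedPt (J ^ 2)) H)
    have h1 := V_natural hf (hq k) (σ k) (rp₀ k ≫ c ≫ snd (closedPt (J ^ 2)) H) hq' σa ea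
    have h2 := V_natural hf (hq l) (σ l) (rp₀ l ≫ c ≫ snd (closedPt (J ^ 2)) H) hq' σa eb
    rw [reassoc_of% e1] at h2
    exact congrArg CommaMorphism.left (h1.symm.trans h2))
  have hFw : F ≫ K.hom = q₀ := P.ext _ _ fun k => by rw [reassoc_of% hF]; exact Over.w (fk k)
  let θ : Q ⟶ K := c' ≫ Over.homMk F hFw
  have key : ∀ (B : CommRingCat.{u}) (q : Spec B ⟶ Spec R) (N : Type) [AddCommGroup N] (τ : Split H q N)
      (k₂ : Over.mk q ⟶ closedPt (J ^ 2)) (h : Over.mk q ⟶ H),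
      lift k₂ h ≫ θ = V hf (le_ker_of_hom k₂) τ h := fun B q N _ τ k₂ h => by
    apply Over.OverMorphism.ext
    obtain ⟨P', hP'⟩ := exists_pull_cover P (lift k₂ h ≫ c').left
    refine P'.ext _ _ fun i => ?_
    obtain ⟨k, a, hka⟩ := hP' i
    let q' : Spec (P'.ring i) ⟶ Spec R := Spec.map (P'.map i) ≫ q
    let r : Over.mk q' ⟶ Over.mk q := Over.homMk (Spec.map (P'.map i)) rfl
    let ra : Over.mk q' ⟶ Over.mk (Spec.map (P.map k) ≫ q₀) := Over.homMk (Spec.map a) (by
      show Spec.map a ≫ Spec.map (P.map k) ≫ q₀ = Spec.map (P'.map i) ≫ q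
      rw [reassoc_of% hka]
      exact congrArg (Spec.map (P'.map i) ≫ ·) (Over.w (lift k₂ h ≫ c')))
    let τ' : Split H q' N := τ.comp (Spec.map (P'.map i)) rfl
    have hq' : J ^ 2 ≤ RingHom.ker (Spec.preimage q').hom := le_ker_of_hom (r ≫ k₂)
    have e1 : ra ≫ rp₀ k = r ≫ lift k₂ h ≫ c' := Over.OverMorphism.ext hka
    have e2 : ra ≫ fk k = r ≫ V hf (le_ker_of_hom k₂) τ h := by
      rw [← V_natural hf (le_ker_of_hom k₂) τ h hq' τ' r, ← V_natural hf (hq k) (σ k) _ hq' τ' ra,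
        reassoc_of% e1, reassoc_of% hcc, lift_snd]
    show Spec.map (P'.map i) ≫ (lift k₂ h ≫ c').left ≫ F = (r ≫ V hf (le_ker_of_hom k₂) τ h).left
    rw [← reassoc_of% hka, hF, ← e2]
    rfl
  refine ⟨θ, fun X s a b => ?_, fun X k k₂ h => ?_⟩
  · refine ext_split hH fun B q N _ τ w => ?_
    simp only [← Category.assoc, comp_lift, MonObj.comp_mul]
    rw [key B q N τ, key B q N τ, key B q N τ, V_mul]
  · refine ext_split hH fun B q N _ τ w => ?_
    rw [← Category.assoc, comp_lift, key B q N τ, V_red hf _ τ _ (le_ker_of_hom (w ≫ k)), Category.assoc]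

variable [IsAffineHom H.hom] [Smooth K.hom]

/-- Homomorphisms into smooth groups lift along nilpotent thickenings. -/
theorem exists_hom_lift (hH : TrivAct.HasSplitCovers H) (J : Ideal R) (hJ : IsNilpotent J)
    (u₀ : closedPt J ⊗ H ⟶ K) (hu : IsPtHom u₀) :
    ∃ φ : H ⟶ K, IsMonHom φ ∧ snd (closedPt J) H ≫ φ = u₀ := by
  obtain ⟨f₀, hf₀⟩ := exists_extend J hJ u₀
  have h0 : HomMod J f₀ := fun X k a b => by
    have := hu X k a b
    rwa [← hf₀, lift_snd_assoc, lift_snd_assoc, lift_snd_assoc] at this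
  have hnil : ∀ I : Ideal R, I ≤ J → IsNilpotent I := fun I hI => by
    obtain ⟨n, hn⟩ := hJ
    refine ⟨n, le_bot_iff.1 ((Ideal.pow_right_mono hI n).trans ?_)⟩
    rw [hn]
    exact le_rfl
  have step : ∀ n : ℕ, ∃ f : H ⟶ K, HomMod (J ^ 2 ^ n) f ∧ snd (closedPt J) H ≫ f = u₀ := by
    intro n
    induction n with
    | zero => exact ⟨f₀, by rwa [pow_zero, pow_one], hf₀⟩
    | succ n ih =>
      obtain ⟨f, hf, hfu⟩ := ih
      obtain ⟨θ, hθ, hθf⟩ := exists_step hH (J ^ 2 ^ n) f hf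
      have hle : J ^ 2 ^ n ≤ J := Ideal.pow_le_self (pow_ne_zero n two_ne_zero)
      obtain ⟨f', hf'⟩ := exists_extend ((J ^ 2 ^ n) ^ 2) (hnil _ ((Ideal.pow_le_self two_ne_zero).trans hle)) θ
      refine ⟨f', ?_, ?_⟩
      · rw [pow_succ 2 n, pow_mul]
        intro X k a b
        have := hθ X k a b
        rwa [← hf', lift_snd_assoc, lift_snd_assoc, lift_snd_assoc] at this
      · rw [← hfu]
        let k : closedPt J ⊗ H ⟶ closedPt (J ^ 2 ^ n) := fst _ _ ≫ closedPtMap hle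
        let k₂ : closedPt J ⊗ H ⟶ closedPt ((J ^ 2 ^ n) ^ 2) := k ≫ closedPtMap (Ideal.pow_le_self two_ne_zero)
        have h := hθf _ k k₂ (snd _ _)
        rwa [← hf', lift_snd_assoc] at h
  obtain ⟨n, hn⟩ := hJ
  obtain ⟨φ, hφ, hφu⟩ := step n
  have hbot : J ^ 2 ^ n = ⊥ := le_bot_iff.1 (by
    refine (Ideal.pow_le_pow_right (Nat.lt_two_pow_self (n := n)).le).trans ?_
    rw [hn]
    exact le_rfl)
  have hmul : ∀ {X : Over (Spec R)} (a b : X ⟶ H), (a * b) ≫ φ = (a ≫ φ) * (b ≫ φ) := fun {X} a b => by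
    refine hom_ext_affine _ _ fun B q w => ?_
    simp only [← Category.assoc, MonObj.comp_mul]
    exact hφ _ (killTo _ (by rw [hbot]; exact bot_le)) _ _
  have hone : ∀ {X : Over (Spec R)}, (1 : X ⟶ H) ≫ φ = 1 := fun {X} => by
    have h := hmul (1 : X ⟶ H) 1
    rw [_root_.mul_one] at h
    exact left_eq_mul.1 h
  refine ⟨φ, ⟨?_, ?_⟩, hφu⟩
  · have := hone (X := 𝟙_ (Over (Spec R)))
    simp only [Hom.one_def, toUnit_unit, Category.id_comp] at this
    exact this
  · have := hmul (fst H H) (snd H H)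
    rw [Hom.mul_def, lift_fst_snd, Category.id_comp] at this
    rw [this, Hom.mul_def]
    congr 1

end Groth.Agent.AvgMap
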