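import Groth.Agent.AvgMap.Desc
import Groth.Agent.AvgPoint.Coord
/-!
The constant component of a family of points over a group algebra which is constant modulo a square-zero ideal.
-/

set_option autoImplicit false
set_option backward.isDefEq.respectTransparency false
set_option backward.isDefEq.respectTransparency.types false
set_option linter.style.haveILetI false

universe u

open CategoryTheory CategoryTheory.Limits MonoidalCategory CartesianMonoidalCategory MonObj AlgebraicGeometry

noncomputable section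

namespace Groth.Agent.AvgMap

open FixedSmooth

variable {B : CommRingCat.{u}} {M : Type} [AddCommGroup M]

/-- The group algebra. -/
abbrev BM (B : CommRingCat.{u}) (M : Type) [AddCommGroup M] : CommRingCat.{u} :=
  CommRingCat.of (MonoidAlgebra B (Multiplicative M))

/-- The constants. -/
abbrev cst (B : CommRingCat.{u}) (M : Type) [AddCommGroup M] : B ⟶ BM B M := AvgPoint.s1 B M

/-- The augmentation. -/
abbrev eps (B : CommRingCat.{u}) (M : Type) [AddCommGroup M] : BM B M ⟶ B :=
  CommRingCat.ofHom (L (RingHom.id B) 1)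

theorem cst_eps (B : CommRingCat.{u}) (M : Type) [AddCommGroup M] : cst B M ≫ eps B M = 𝟙 B :=
  CommRingCat.hom_ext (L_comp_single (RingHom.id B) 1)

/-- Reduction of coefficients. -/
abbrev pN (N : Ideal B) (M : Type) [AddCommGroup M] : BM B M ⟶ BM (CommRingCat.of (B ⧸ N)) M :=
  CommRingCat.ofHom (MonoidAlgebra.mapRingHom _ (Ideal.Quotient.mk N))

/-- Reduction of the augmentation. -/
abbrev pN' (N : Ideal B) (M : Type) [AddCommGroup M] : BM B M ⟶ BM (CommRingCat.of (B ⧸ N)) M :=
  eps B M ≫ cst B M ≫ pN N M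

theorem cst_pN' (N : Ideal B) : cst B M ≫ pN' N M = cst B M ≫ pN N M := by
  show cst B M ≫ eps B M ≫ _ = _
  rw [reassoc_of% cst_eps B M]

/-- The elements constant modulo `N`. -/
def constMod (N : Ideal B) (M : Type) [AddCommGroup M] : Subring (BM B M) :=
  RingHom.eqLocus (pN N M).hom (pN' N M).hom

abbrev A (N : Ideal B) (M : Type) [AddCommGroup M] : CommRingCat.{u} := CommRingCat.of (constMod N M)

abbrev incl (N : Ideal B) (M : Type) [AddCommGroup M] : A N M ⟶ BM B M := CommRingCat.ofHom (constMod N M).subtype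

variable {N : Ideal B}

theorem mem_map_of_coeff (n : BM B M) (h : ∀ m, n.coeff m ∈ N) : n ∈ N.map (cst B M).hom := by
  classical
  rw [← MonoidAlgebra.sum_single n, Finsupp.sum]
  refine Ideal.sum_mem _ fun m _ => ?_
  have e : (MonoidAlgebra.single m (n.coeff m) : BM B M) =
      (cst B M).hom (n.coeff m) * MonoidAlgebra.single m 1 := by
    simp [AvgPoint.s1]
  rw [e]
  exact Ideal.mul_mem_right _ _ (Ideal.mem_map_of_mem _ (h m))

theorem map_le_ker : N.map (cst B M).hom ≤ RingHom.ker (pN N M).hom :=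
  Ideal.map_le_iff_le_comap.2 fun b hb => by
    show (pN N M).hom ((cst B M).hom b) = 0
    simp [AvgPoint.s1, Ideal.Quotient.eq_zero_iff_mem.2 hb]

theorem eps_mem {n : BM B M} (hn : n ∈ N.map (cst B M).hom) : (eps B M).hom n ∈ N := by
  refine (Ideal.map_le_iff_le_comap.2 fun b hb => ?_ : N.map (cst B M).hom ≤ N.comap (eps B M).hom) hn
  show (eps B M).hom ((cst B M).hom b) ∈ N
  have : (eps B M).hom ((cst B M).hom b) = b := congrArg (fun f => f.hom b) (cst_eps B M)
  rwa [this]

theorem mul_eq_zero (hN : N ^ 2 = ⊥) {n n' : BM B M} (hn : n ∈ N.map (cst B M).hom)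
    (hn' : n' ∈ N.map (cst B M).hom) : n * n' = 0 := by
  have := Ideal.mul_mem_mul hn hn'
  rwa [← pow_two, ← Ideal.map_pow, hN, Ideal.map_bot, Ideal.mem_bot] at this

theorem mem_constMod {c : BM B M} {b : B} (h : c - (cst B M).hom b ∈ N.map (cst B M).hom) : c ∈ constMod N M := by
  show (pN N M).hom c = (pN' N M).hom c
  have h1 : (pN N M).hom c = (pN N M).hom ((cst B M).hom b) := by
    rw [← sub_eq_zero, ← map_sub]; exact map_le_ker h
  have h2 : (pN N M).hom ((cst B M).hom ((eps B M).hom c)) = (pN N M).hom ((cst B M).hom b) := by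
    rw [← sub_eq_zero, ← map_sub, ← map_sub]
    refine map_le_ker (Ideal.mem_map_of_mem _ ?_)
    have hb : (eps B M).hom ((cst B M).hom b) = b := congrArg (fun f => f.hom b) (cst_eps B M)
    conv in _ - b => rw [← hb]
    rw [← map_sub]
    exact eps_mem h
  exact h1.trans h2.symm

theorem sub_mem (c : constMod N M) :
    (c : BM B M) - (cst B M).hom ((c : BM B M).coeff 1) ∈ N.map (cst B M).hom := by
  classical
  refine mem_map_of_coeff _ fun m => ?_
  have h : (pN N M).hom (c : BM B M) =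
      MonoidAlgebra.single (1 : Multiplicative M) (Ideal.Quotient.mk N ((eps B M).hom (c : BM B M))) := by
    refine (show (pN N M).hom (c : BM B M) = (pN' N M).hom (c : BM B M) from c.2).trans ?_
    simp [AvgPoint.s1]
  have hm := congrArg (fun w => w.coeff m) h
  have h1 := congrArg (fun w => w.coeff 1) h
  simp at hm h1
  rw [← Ideal.Quotient.eq_zero_iff_mem]
  by_cases hm1 : m = 1
  · subst hm1; simp [AvgPoint.s1]
  · simp [AvgPoint.s1, Finsupp.single_apply, Ne.symm hm1] at hm ⊢
    exact hm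

theorem coeff_one_mul (hN : N ^ 2 = ⊥) (c c' : constMod N M) :
    ((c : BM B M) * c').coeff 1 = (c : BM B M).coeff 1 * (c' : BM B M).coeff 1 := by
  classical
  have h0 := mul_eq_zero hN (sub_mem c) (sub_mem c')
  have hl : ∀ (r : B) (w : BM B M), ((cst B M).hom r * w).coeff 1 = r * w.coeff 1 := fun r w => by
    simp [AvgPoint.s1, MonoidAlgebra.coeff_single_one_mul]
  have e : (c : BM B M) * c' = (cst B M).hom ((c : BM B M).coeff 1) * c' +
      (cst B M).hom ((c' : BM B M).coeff 1) * c -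
      (cst B M).hom ((c : BM B M).coeff 1) * (cst B M).hom ((c' : BM B M).coeff 1) := by
    linear_combination h0
  rw [e, MonoidAlgebra.coeff_sub, MonoidAlgebra.coeff_add, Finsupp.sub_apply, Finsupp.add_apply, hl, hl, hl]
  simp [AvgPoint.s1]
  ring

/-- The constant component. -/
def cf (hN : N ^ 2 = ⊥) : A N M ⟶ B :=
  CommRingCat.ofHom
    { toFun := fun c => (c : BM B M).coeff 1
      map_one' := by simp [MonoidAlgebra.one_def]
      map_mul' := coeff_one_mul hN
      map_zero' := by simp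
      map_add' := fun c c' => by simp }

/-- Constants, as constants modulo `N`. -/
def sA (N : Ideal B) (M : Type) [AddCommGroup M] : B ⟶ A N M :=
  CommRingCat.ofHom ((cst B M).hom.codRestrict (constMod N M) fun b => mem_constMod (b := b) (by simp))

theorem sA_incl : sA N M ≫ incl N M = cst B M := rfl

theorem sA_cf (hN : N ^ 2 = ⊥) : sA N M ≫ cf hN = 𝟙 B :=
  CommRingCat.hom_ext (RingHom.ext fun b => by
    show ((cst B M).hom b).coeff 1 = b
    simp [AvgPoint.s1])

theorem incl_injective : Function.Injective (incl N M).hom := Subtype.coe_injective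

theorem surjective_incl (hN : N ^ 2 = ⊥) : Function.Surjective (Spec.map (incl N M)) := fun P => by
  refine ⟨Spec.map (eps B M) (Spec.map (sA N M) P), ?_⟩
  refine PrimeSpectrum.ext (SetLike.ext fun c => ?_)
  show (sA N M).hom ((eps B M).hom (c : BM B M)) ∈ P.asIdeal ↔ c ∈ P.asIdeal
  have hc : (c : BM B M) - ((sA N M).hom ((eps B M).hom (c : BM B M)) : BM B M) ∈ N.map (cst B M).hom := by
    have h := Ideal.sub_mem _ (sub_mem c) (Ideal.mem_map_of_mem (cst B M).hom (eps_mem (sub_mem c)))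
    have hb : ∀ b, (eps B M).hom ((cst B M).hom b) = b := fun b => congrArg (fun f => f.hom b) (cst_eps B M)
    rw [map_sub, hb, map_sub, sub_sub_sub_cancel_right] at h
    exact h
  have h0 : (c - (sA N M).hom ((eps B M).hom (c : BM B M))) * (c - (sA N M).hom ((eps B M).hom (c : BM B M))) = 0 :=
    Subtype.ext (mul_eq_zero hN hc hc)
  have hP : c - (sA N M).hom ((eps B M).hom (c : BM B M)) ∈ P.asIdeal :=
    (P.isPrime.mem_or_mem (h0 ▸ P.asIdeal.zero_mem)).elim id id
  constructor
  · exact fun h => by simpa using P.asIdeal.add_mem hP h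
  · exact fun h => by simpa using P.asIdeal.sub_mem h hP

theorem surjective_pN (hN : N ^ 2 = ⊥) : Function.Surjective (Spec.map (pN N M)) := fun t => by
  classical
  have hs : Function.Surjective (pN N M).hom := MonoidAlgebra.map_surjective _ Ideal.Quotient.mk_surjective
  have : t ∈ Set.range (PrimeSpectrum.comap (pN N M).hom) := by
    rw [range_comap_of_surjective _ _ hs, PrimeSpectrum.mem_zeroLocus]
    intro n hn
    have hn' : n ∈ N.map (cst B M).hom := mem_map_of_coeff n fun m => by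
      have := congrArg (fun w => w.coeff m) (RingHom.mem_ker.1 hn)
      simp at this
      exact Ideal.Quotient.eq_zero_iff_mem.1 this
    have h0 := mul_eq_zero hN hn' hn'
    exact (t.isPrime.mem_or_mem (h0 ▸ t.asIdeal.zero_mem)).elim id id
  exact this

variable {Y Y' : Scheme.{u}}

/-- Constant modulo `N`. -/
def IsConstMod (N : Ideal B) (y : Spec (BM B M) ⟶ Y) : Prop := Spec.map (pN N M) ≫ y = Spec.map (pN' N M) ≫ y

theorem IsConstMod.comp {y : Spec (BM B M) ⟶ Y} (hy : IsConstMod N y) (φ : Y ⟶ Y') : IsConstMod N (y ≫ φ) := by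
  unfold IsConstMod at hy ⊢
  rw [reassoc_of% hy]

theorem exists_factor (hN : N ^ 2 = ⊥) {y : Spec (BM B M) ⟶ Y} (hy : IsConstMod N y) :
    ∃ y' : Spec (A N M) ⟶ Y, Spec.map (incl N M) ≫ y' = y := by
  refine exists_desc (incl N M) (pN N M) (pN' N M) (CommRingCat.hom_ext (RingHom.ext fun c => c.2))
    (fun c hc => ⟨⟨c, hc⟩, rfl⟩) incl_injective (surjective_incl hN) y hy
    (Spec.map (sA N M) ≫ Spec.map (eps B M) ≫ y) fun t => ?_
  obtain ⟨t', rfl⟩ := surjective_pN hN t
  have e : Spec.map (pN' N M) ≫ y = Spec.map (pN N M) ≫ Spec.map (incl N M) ≫ Spec.map (sA N M) ≫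
      Spec.map (eps B M) ≫ y := by
    simp only [Spec.map_comp, Category.assoc]
    rw [← sA_incl (N := N) (M := M), Spec.map_comp, Category.assoc]
  rw [← Scheme.Hom.comp_apply, hy, e]
  simp only [Scheme.Hom.comp_apply]

/-- The constant component of a point constant modulo `N`. -/
def mean (hN : N ^ 2 = ⊥) (y : Spec (BM B M) ⟶ Y) (hy : IsConstMod N y) : Spec B ⟶ Y :=
  Spec.map (cf hN) ≫ (exists_factor hN hy).choose

theorem mean_eq (hN : N ^ 2 = ⊥) {y : Spec (BM B M) ⟶ Y} (hy : IsConstMod N y) (y' : Spec (A N M) ⟶ Y)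
    (h : Spec.map (incl N M) ≫ y' = y) : mean hN y hy = Spec.map (cf hN) ≫ y' :=
  congrArg (Spec.map (cf hN) ≫ ·)
    (desc_ext (incl N M) incl_injective (surjective_incl hN) ((exists_factor hN hy).choose_spec.trans h.symm))

theorem mean_congr (hN : N ^ 2 = ⊥) {y y' : Spec (BM B M) ⟶ Y} (e : y = y') (hy : IsConstMod N y)
    (hy' : IsConstMod N y') : mean hN y hy = mean hN y' hy' := by
  subst e; rfl

theorem mean_comp (hN : N ^ 2 = ⊥) {y : Spec (BM B M) ⟶ Y} (hy : IsConstMod N y) (φ : Y ⟶ Y') :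
    mean hN (y ≫ φ) (hy.comp φ) = mean hN y hy ≫ φ :=
  (mean_eq hN (hy.comp φ) ((exists_factor hN hy).choose ≫ φ)
    (by rw [reassoc_of% (exists_factor hN hy).choose_spec])).trans (Category.assoc _ _ _).symm

theorem mean_const (hN : N ^ 2 = ⊥) (z : Spec B ⟶ Y) {y : Spec (BM B M) ⟶ Y} (e : y = Spec.map (cst B M) ≫ z)
    (hy : IsConstMod N y) : mean hN y hy = z := by
  rw [mean_eq hN hy (Spec.map (sA N M) ≫ z) (by rw [e, ← sA_incl (N := N) (M := M), Spec.map_comp, Category.assoc]),
    ← Category.assoc, ← Spec.map_comp, sA_cf, Spec.map_id, Category.id_comp]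

theorem mean_red (hN : N ^ 2 = ⊥) {y : Spec (BM B M) ⟶ Y} (hy : IsConstMod N y) {D : CommRingCat.{u}} (g : B ⟶ D)
    (hg : N ≤ RingHom.ker g.hom) : Spec.map g ≫ mean hN y hy = Spec.map g ≫ Spec.map (eps B M) ≫ y := by
  have e : cf hN ≫ g = incl N M ≫ eps B M ≫ g := CommRingCat.hom_ext (RingHom.ext fun c => by
    have hb : (eps B M).hom ((cst B M).hom ((c : BM B M).coeff 1)) = (c : BM B M).coeff 1 :=
      congrArg (fun f => f.hom ((c : BM B M).coeff 1)) (cst_eps B M)
    have h := RingHom.mem_ker.1 (hg (eps_mem (sub_mem c)))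
    rw [map_sub, hb, map_sub, sub_eq_zero] at h
    exact h.symm)
  show Spec.map g ≫ Spec.map (cf hN) ≫ _ = _
  rw [← Category.assoc, ← Spec.map_comp, e, Spec.map_comp, Spec.map_comp, Category.assoc, Category.assoc,
    (exists_factor hN hy).choose_spec]

theorem mean_change (hN : N ^ 2 = ⊥) {B' : CommRingCat.{u}} {N' : Ideal B'} (hN' : N' ^ 2 = ⊥) {M' : Type}
    [AddCommGroup M'] (g : B ⟶ B') (hg : N ≤ N'.comap g.hom) (θ : BM B M ⟶ BM B' M')
    (hs : cst B M ≫ θ = g ≫ cst B' M') (hc : ∀ c : BM B M, (θ.hom c).coeff 1 = g.hom (c.coeff 1))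
    {y : Spec (BM B M) ⟶ Y} (hy : IsConstMod N y) {y₁ : Spec (BM B' M') ⟶ Y} (e : y₁ = Spec.map θ ≫ y)
    (hy₁ : IsConstMod N' y₁) : mean hN' y₁ hy₁ = Spec.map g ≫ mean hN y hy := by
  have hθ : ∀ n ∈ N.map (cst B M).hom, θ.hom n ∈ N'.map (cst B' M').hom := fun n hn => by
    refine (Ideal.map_le_iff_le_comap.2 fun b hb => ?_ :
      N.map (cst B M).hom ≤ (N'.map (cst B' M').hom).comap θ.hom) hn
    have : θ.hom ((cst B M).hom b) = (cst B' M').hom (g.hom b) := congrArg (fun f => f.hom b) hs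
    rw [Ideal.mem_comap, Ideal.mem_comap, this]
    exact Ideal.mem_map_of_mem _ (hg hb)
  have hmem : ∀ c : constMod N M, θ.hom (c : BM B M) ∈ constMod N' M' := fun c =>
    mem_constMod (b := g.hom ((c : BM B M).coeff 1)) (by
      have h := hθ _ (sub_mem c)
      have : θ.hom ((cst B M).hom ((c : BM B M).coeff 1)) = (cst B' M').hom (g.hom ((c : BM B M).coeff 1)) :=
        congrArg (fun f => f.hom ((c : BM B M).coeff 1)) hs
      rwa [map_sub, this] at h)
  let θA : A N M ⟶ A N' M' := CommRingCat.ofHom ((θ.hom.comp (constMod N M).subtype).codRestrict _ hmem)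
  have e1 : θA ≫ incl N' M' = incl N M ≫ θ := rfl
  have e2 : θA ≫ cf hN' = cf hN ≫ g := CommRingCat.hom_ext (RingHom.ext fun c => hc c)
  rw [mean_eq hN' hy₁ (Spec.map θA ≫ (exists_factor hN hy).choose) (by
      rw [← Category.assoc, ← Spec.map_comp, e1, Spec.map_comp, Category.assoc, (exists_factor hN hy).choose_spec, e]),
    ← Category.assoc, ← Spec.map_comp, e2, Spec.map_comp, Category.assoc]
  rfl

section Over

variable {R : CommRingCat.{u}} {q : Spec B ⟶ Spec R} {K : Over (Spec R)}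

/-- The source of the universal family. -/
abbrev univSrc (q : Spec B ⟶ Spec R) (M : Type) [AddCommGroup M] : Over (Spec R) :=
  Over.mk (Spec.map (cst B M) ≫ q)

abbrev redSrc (q : Spec B ⟶ Spec R) (N : Ideal B) (M : Type) [AddCommGroup M] : Over (Spec R) :=
  Over.mk (Spec.map (pN N M) ≫ Spec.map (cst B M) ≫ q)

abbrev rp (q : Spec B ⟶ Spec R) (N : Ideal B) (M : Type) [AddCommGroup M] : redSrc q N M ⟶ univSrc q M :=
  Over.homMk (Spec.map (pN N M)) rfl

abbrev rp' (q : Spec B ⟶ Spec R) (N : Ideal B) (M : Type) [AddCommGroup M] : redSrc q N M ⟶ univSrc q M :=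
  Over.homMk (Spec.map (pN' N M)) (by
    show Spec.map (pN' N M) ≫ Spec.map (cst B M) ≫ q = Spec.map (pN N M) ≫ Spec.map (cst B M) ≫ q
    rw [← Category.assoc, ← Spec.map_comp, cst_pN', Spec.map_comp, Category.assoc])

/-- Constant modulo `N`, relatively. -/
def IsC (N : Ideal B) (y : univSrc q M ⟶ K) : Prop := rp q N M ≫ y = rp' q N M ≫ y

theorem IsC.isConstMod {y : univSrc q M ⟶ K} (h : IsC N y) : IsConstMod N y.left :=
  congrArg CommaMorphism.left h

theorem IsC.comp {y : univSrc q M ⟶ K} (h : IsC N y) {K' : Over (Spec R)} (φ : K ⟶ K') : IsC N (y ≫ φ) := by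
  unfold IsC at h ⊢
  rw [reassoc_of% h]

/-- The constant component, relatively. -/
def Mean (hN : N ^ 2 = ⊥) (y : univSrc q M ⟶ K) (hy : IsC N y) : Over.mk q ⟶ K :=
  Over.homMk (mean hN y.left hy.isConstMod) (by
    show mean hN y.left hy.isConstMod ≫ K.hom = q
    rw [← mean_comp]
    exact mean_const hN q (Over.w y) _)

theorem Mean_congr (hN : N ^ 2 = ⊥) {y y' : univSrc q M ⟶ K} (e : y = y') (hy : IsC N y) (hy' : IsC N y') :
    Mean hN y hy = Mean hN y' hy' := by
  subst e; rfl

theorem Mean_comp (hN : N ^ 2 = ⊥) {y : univSrc q M ⟶ K} (hy : IsC N y) {K' : Over (Spec R)} (φ : K ⟶ K') :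
    Mean hN (y ≫ φ) (hy.comp φ) = Mean hN y hy ≫ φ :=
  Over.OverMorphism.ext (mean_comp hN hy.isConstMod φ.left)

variable [GrpObj K]

theorem IsC.mul {a b : univSrc q M ⟶ K} (ha : IsC N a) (hb : IsC N b) : IsC N (a * b) := by
  unfold IsC at ha hb ⊢
  rw [MonObj.comp_mul, MonObj.comp_mul, ha, hb]

theorem Mean_mul (hN : N ^ 2 = ⊥) {a b : univSrc q M ⟶ K} (ha : IsC N a) (hb : IsC N b) :
    Mean hN (a * b) (ha.mul hb) = Mean hN a ha * Mean hN b hb := by
  have hl : IsC N (lift a b) := by
    unfold IsC at ha hb ⊢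
    rw [comp_lift, comp_lift, ha, hb]
  have e : Mean hN (lift a b) hl = lift (Mean hN a ha) (Mean hN b hb) := by
    apply CartesianMonoidalCategory.hom_ext
    · rw [lift_fst, ← Mean_comp hN hl]
      exact Mean_congr hN (lift_fst a b) _ _
    · rw [lift_snd, ← Mean_comp hN hl]
      exact Mean_congr hN (lift_snd a b) _ _
  refine (Mean_congr hN (Hom.mul_def a b) _ (hl.comp μ)).trans ?_
  rw [Mean_comp hN hl, e]
  exact (Hom.mul_def _ _).symm

end Over

end Groth.Agent.AvgMap
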