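import Groth.Agent.RigidMult.Hom
import Groth.Agent.SmoothLiftLib.Nbhd
/-!
Points of smooth schemes, and maps out of relatively affine schemes, extend along nilpotent closed immersions.
-/

set_option autoImplicit false
set_option backward.isDefEq.respectTransparency false
set_option backward.isDefEq.respectTransparency.types false
set_option linter.style.haveILetI false

universe u

open CategoryTheory CategoryTheory.Limits MonoidalCategory CartesianMonoidalCategory MonObj AlgebraicGeometry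

noncomputable section

namespace Groth.Agent.AvgMap

open FixedSmooth RigidMult

theorem exists_lift_nilp {X Y : Scheme.{u}} (f : X ⟶ Y) [Smooth f] :
    ∀ (n : ℕ) (A : CommRingCat.{u}) (I : Ideal A), I ^ (n + 1) = ⊥ →
      ∀ (a : Spec (CommRingCat.of (A ⧸ I)) ⟶ X) (b : Spec A ⟶ Y),
        Spec.map (CommRingCat.ofHom (Ideal.Quotient.mk I)) ≫ b = a ≫ f →
          ∃ l : Spec A ⟶ X, Spec.map (CommRingCat.ofHom (Ideal.Quotient.mk I)) ≫ l = a ∧ l ≫ f = b := by
  intro n
  induction n with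
  | zero =>
    intro A I hI a b w
    refine SmoothLiftLib.isFormallySmoothHom_of_smooth f A I ?_ a b w
    rw [zero_add, pow_one] at hI
    rw [hI, pow_two, Ideal.bot_mul]
  | succ n ih =>
    intro A I hI a b w
    let K : Ideal A := I ^ (n + 1)
    have hK : K ^ 2 = ⊥ := by
      refine le_bot_iff.1 ?_
      rw [← hI, ← pow_mul]
      exact Ideal.pow_le_pow_right (by omega)
    have hKI : K ≤ I := Ideal.pow_le_self (by omega)
    let A₁ : CommRingCat.{u} := CommRingCat.of (A ⧸ K)
    let I₁ : Ideal A₁ := I.map (Ideal.Quotient.mk K)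
    have hI₁ : I₁ ^ (n + 1) = ⊥ := by
      rw [← Ideal.map_pow]
      exact Ideal.map_quotient_self K
    let mK : A ⟶ A₁ := CommRingCat.ofHom (Ideal.Quotient.mk K)
    let mI : A ⟶ CommRingCat.of (A ⧸ I) := CommRingCat.ofHom (Ideal.Quotient.mk I)
    let mI₁ : A₁ ⟶ CommRingCat.of (A₁ ⧸ I₁) := CommRingCat.ofHom (Ideal.Quotient.mk I₁)
    let e : CommRingCat.of (A ⧸ I) ⟶ CommRingCat.of (A₁ ⧸ I₁) :=
      CommRingCat.ofHom (Ideal.Quotient.lift I ((Ideal.Quotient.mk I₁).comp (Ideal.Quotient.mk K)) fun r hr =>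
        Ideal.Quotient.eq_zero_iff_mem.2 (Ideal.mem_map_of_mem _ hr))
    let p' : CommRingCat.of (A₁ ⧸ I₁) ⟶ CommRingCat.of (A ⧸ I) :=
      CommRingCat.ofHom (Ideal.Quotient.lift I₁ (Ideal.Quotient.factor hKI) fun r hr => by
        have : I₁ ≤ RingHom.ker (Ideal.Quotient.factor hKI) := Ideal.map_le_iff_le_comap.2 fun s hs => by
          show Ideal.Quotient.mk I s = 0
          exact Ideal.Quotient.eq_zero_iff_mem.2 hs
        exact RingHom.mem_ker.1 (this hr))
    have he : e ≫ p' = 𝟙 _ := CommRingCat.hom_ext (RingHom.ext fun r => by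
      obtain ⟨r, rfl⟩ := Ideal.Quotient.mk_surjective r
      rfl)
    have hIe : mI ≫ e = mK ≫ mI₁ := CommRingCat.hom_ext (RingHom.ext fun r => rfl)
    have hp : mK ≫ mI₁ ≫ p' = mI := CommRingCat.hom_ext (RingHom.ext fun r => rfl)
    obtain ⟨l₁, hl₁, hl₁f⟩ := ih A₁ I₁ hI₁ (Spec.map e ≫ a) (Spec.map mK ≫ b) (by
      rw [Category.assoc, ← w]
      show Spec.map mI₁ ≫ Spec.map mK ≫ b = Spec.map e ≫ Spec.map mI ≫ b
      rw [← Category.assoc, ← Spec.map_comp, ← hIe, Spec.map_comp, Category.assoc])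
    obtain ⟨l, hl, hlf⟩ := SmoothLiftLib.isFormallySmoothHom_of_smooth f A K hK l₁ b hl₁f.symm
    refine ⟨l, ?_, hlf⟩
    show Spec.map mI ≫ l = a
    have h1 : Spec.map mI₁ ≫ l₁ = Spec.map e ≫ a := hl₁
    have h2 : Spec.map mK ≫ l = l₁ := hl
    rw [← hp, Spec.map_comp, Spec.map_comp, Category.assoc, Category.assoc, h2, h1, ← Category.assoc,
      ← Spec.map_comp, he, Spec.map_id, Category.id_comp]

variable {R : CommRingCat.{u}}

/-- An affine scheme over `Spec R` on which `J` vanishes lies over the closed subscheme. -/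
def killTo {B : CommRingCat.{u}} {q : Spec B ⟶ Spec R} (J : Ideal R) (h : J ≤ RingHom.ker (Spec.preimage q).hom) :
    Over.mk q ⟶ closedPt J :=
  Over.homMk (Spec.map (CommRingCat.ofHom (Ideal.Quotient.lift J (Spec.preimage q).hom
    fun r hr => RingHom.mem_ker.1 (h hr)))) (by
    show Spec.map _ ≫ Spec.map _ = q
    rw [← Spec.map_comp]
    exact (congrArg Spec.map (CommRingCat.hom_ext (RingHom.ext fun r => rfl))).trans (Spec.map_preimage q))

theorem le_ker_of_hom {B : CommRingCat.{u}} {q : Spec B ⟶ Spec R} {J : Ideal R} (k : Over.mk q ⟶ closedPt J) :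
    J ≤ RingHom.ker (Spec.preimage q).hom := fun r hr => by
  have e : CommRingCat.ofHom (Ideal.Quotient.mk J) ≫ Spec.preimage k.left = Spec.preimage q :=
    Spec.map_injective (by rw [Spec.map_comp, Spec.map_preimage, Spec.map_preimage]; exact Over.w k)
  rw [RingHom.mem_ker, ← e]
  show (Spec.preimage k.left).hom (Ideal.Quotient.mk J r) = 0
  rw [Ideal.Quotient.eq_zero_iff_mem.2 hr, map_zero]

/-- Smaller ideals cut out larger subschemes. -/
def closedPtMap {I J : Ideal R} (h : I ≤ J) : closedPt J ⟶ closedPt I :=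
  Over.homMk (Spec.map (CommRingCat.ofHom (Ideal.Quotient.factor h))) (by
    show Spec.map _ ≫ Spec.map _ = Spec.map _
    rw [← Spec.map_comp]
    exact congrArg Spec.map (CommRingCat.hom_ext (RingHom.ext fun r => rfl)))

variable {H K : Over (Spec R)}

/-- Maps out of a relatively affine scheme extend along a nilpotent closed immersion. -/
theorem exists_extend [IsAffineHom H.hom] [Smooth K.hom] (J : Ideal R) (hJ : IsNilpotent J)
    (z : closedPt J ⊗ H ⟶ K) : ∃ f : H ⟶ K, snd (closedPt J) H ≫ f = z := by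
  haveI : IsAffine H.left := isAffine_of_isAffineHom H.hom
  let C : CommRingCat.{u} := Γ(H.left, ⊤)
  let q₀ : Spec C ⟶ Spec R := H.left.isoSpec.inv ≫ H.hom
  let gam := Spec.preimage q₀
  let h₀ : Over.mk q₀ ⟶ H := Over.homMk H.left.isoSpec.inv rfl
  let h₀' : H ⟶ Over.mk q₀ := Over.homMk H.left.isoSpec.hom (by
    show H.left.isoSpec.hom ≫ H.left.isoSpec.inv ≫ H.hom = H.hom
    rw [Iso.hom_inv_id_assoc])
  let I : Ideal C := J.map gam.hom
  obtain ⟨n, hn⟩ := hJ
  have hI : I ^ (n + 1) = ⊥ := by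
    rw [← Ideal.map_pow, pow_succ, hn]
    simp
  let mI : C ⟶ CommRingCat.of (C ⧸ I) := CommRingCat.ofHom (Ideal.Quotient.mk I)
  let r : Over.mk (Spec.map mI ≫ q₀) ⟶ Over.mk q₀ := Over.homMk (Spec.map mI) rfl
  have hker : J ≤ RingHom.ker (Spec.preimage (Spec.map mI ≫ q₀)).hom := by
    have : Spec.preimage (Spec.map mI ≫ q₀) = gam ≫ mI := Spec.map_injective (by
      rw [Spec.map_preimage, Spec.map_comp, Spec.map_preimage])
    rw [this]
    exact fun r hr => RingHom.mem_ker.2 (Ideal.Quotient.eq_zero_iff_mem.2 (Ideal.mem_map_of_mem _ hr))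
  let c : Over.mk (Spec.map mI ≫ q₀) ⟶ closedPt J ⊗ H := lift (killTo J hker) (r ≫ h₀)
  obtain ⟨l, hl, hlq⟩ := exists_lift_nilp K.hom n C I hI (c ≫ z).left q₀ (Over.w (c ≫ z)).symm
  refine ⟨h₀' ≫ Over.homMk l hlq, hom_ext_affine _ _ fun B p w => ?_⟩
  let h := w ≫ snd (closedPt J) H
  obtain ⟨g, hg⟩ := Spec.map_surjective (h ≫ h₀').left
  have hgp : Spec.map g ≫ q₀ = p := by rw [hg]; exact Over.w (h ≫ h₀')
  have hgI : I ≤ RingHom.ker g.hom := Ideal.map_le_iff_le_comap.2 fun a ha => by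
    have e : gam ≫ g = Spec.preimage p := Spec.map_injective (by
      rw [Spec.map_comp, Spec.map_preimage, Spec.map_preimage, hgp])
    show g.hom (gam.hom a) = 0
    exact (congrArg (fun f => f.hom a) e).trans (RingHom.mem_ker.1 (le_ker_of_hom (w ≫ fst (closedPt J) H) ha))
  let g' : CommRingCat.of (C ⧸ I) ⟶ B := CommRingCat.ofHom (Ideal.Quotient.lift I g.hom fun a ha =>
    RingHom.mem_ker.1 (hgI ha))
  have hg' : mI ≫ g' = g := CommRingCat.hom_ext (RingHom.ext fun a => rfl)
  let e : Over.mk p ⟶ Over.mk (Spec.map mI ≫ q₀) := Over.homMk (Spec.map g') (by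
    show Spec.map g' ≫ Spec.map mI ≫ q₀ = p
    rw [← Category.assoc, ← Spec.map_comp, hg', hgp])
  have her : e ≫ r = h ≫ h₀' := by
    apply Over.OverMorphism.ext
    show Spec.map g' ≫ Spec.map mI = _
    rw [← Spec.map_comp, hg', hg]
  have hrl : r ≫ Over.homMk l hlq = c ≫ z := Over.OverMorphism.ext hl
  have hw : w = e ≫ c := by
    apply CartesianMonoidalCategory.hom_ext
    · exact closedPt_hom_ext J _ _
    · simp only [c, Category.assoc, lift_snd]
      rw [reassoc_of% her]
      have : h₀' ≫ h₀ = 𝟙 H := Over.OverMorphism.ext (Iso.hom_inv_id _)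
      rw [this, Category.comp_id]
  rw [← Category.assoc w]
  show h ≫ h₀' ≫ _ = _
  rw [← Category.assoc h, ← her, Category.assoc e, hrl, ← Category.assoc, ← hw]

end Groth.Agent.AvgMap
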