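import Groth.Agent.AvgMap.Mean
import Groth.Agent.AvgMap.SmoothLift
/-!
Averaging a map from a split group which is a homomorphism modulo an ideal gives, modulo the square of the ideal,
a family of values which is multiplicative.
-/

set_option autoImplicit false
set_option backward.isDefEq.respectTransparency false
set_option backward.isDefEq.respectTransparency.types false
set_option linter.style.haveILetI false

universe u

open CategoryTheory CategoryTheory.Limits MonoidalCategory CartesianMonoidalCategory MonObj AlgebraicGeometry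

noncomputable section

namespace Groth.Agent.AvgMap

open FixedSmooth RigidMult

variable {R : CommRingCat.{u}} {H K : Over (Spec R)} [GrpObj H] [GrpObj K]

/-- A homomorphism over the closed subscheme cut out by `J`. -/
def HomMod (J : Ideal R) (f : H ⟶ K) : Prop :=
  ∀ (X : Over (Spec R)) (_ : X ⟶ closedPt J) (a b : X ⟶ H), (a * b) ≫ f = (a ≫ f) * (b ≫ f)

theorem HomMod.one {J : Ideal R} {f : H ⟶ K} (hf : HomMod J f) {X : Over (Spec R)} (k : X ⟶ closedPt J) :
    (1 : X ⟶ H) ≫ f = 1 := by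
  have h := hf X k 1 1
  rw [_root_.mul_one] at h
  exact left_eq_mul.1 h

variable {B : CommRingCat.{u}} {q : Spec B ⟶ Spec R} {M : Type} [AddCommGroup M]

theorem pt_pull (σ : Split H q M) {B₁ B₂ : CommRingCat.{u}} {p : Spec B₁ ⟶ Spec B} {p₂ : Spec B₂ ⟶ Spec B}
    (g : B₁ ⟶ B₂) (hp : Spec.map g ≫ p = p₂) (χ : Multiplicative M →* B₁) (e : Over.mk (p₂ ≫ q) ⟶ Over.mk (p ≫ q))
    (he : e.left = Spec.map g) : e ≫ σ.pt B₁ p χ = σ.pt B₂ p₂ (g.hom.toMonoidHom.comp χ) := by
  subst hp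
  apply Over.OverMorphism.ext
  show e.left ≫ _ = _
  rw [he]
  exact AvgPoint.tr_comp_pt_left σ g p χ

/-- The universal point. -/
abbrev uPt (σ : Split H q M) : univSrc q M ⟶ H :=
  σ.pt (BM B M) (Spec.map (cst B M)) (MonoidAlgebra.of B (Multiplicative M))

/-- The structure map of the source of the universal family. -/
abbrev prB (q : Spec B ⟶ Spec R) (M : Type) [AddCommGroup M] : univSrc q M ⟶ Over.mk q :=
  Over.homMk (Spec.map (cst B M)) rfl

/-- The family which is averaged. -/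
def yv (σ : Split H q M) (f : H ⟶ K) (a : Over.mk q ⟶ H) : univSrc q M ⟶ K :=
  (((prB q M ≫ a) * uPt σ) ≫ f) * (uPt σ ≫ f)⁻¹

/-- The ideal generated by `J` over the base. -/
abbrev Nq (J : Ideal R) (q : Spec B ⟶ Spec R) : Ideal B := J.map (Spec.preimage q).hom

theorem Nq_sq {J : Ideal R} (hq : J ^ 2 ≤ RingHom.ker (Spec.preimage q).hom) : Nq J q ^ 2 = ⊥ := by
  rw [← Ideal.map_pow]
  exact (Ideal.map_eq_bot_iff_le_ker _).2 hq

theorem comp_yv {J : Ideal R} {f : H ⟶ K} (hf : HomMod J f) (σ : Split H q M) (a : Over.mk q ⟶ H)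
    {X : Over (Spec R)} (k : X ⟶ closedPt J) (e : X ⟶ univSrc q M) :
    e ≫ yv σ f a = ((e ≫ prB q M) ≫ a) ≫ f := by
  simp only [yv, MonObj.comp_mul, GrpObj.comp_inv, ← Category.assoc]
  rw [hf X k, mul_inv_cancel_right]

theorem redSrc_ker (J : Ideal R) (q : Spec B ⟶ Spec R) (M : Type) [AddCommGroup M] :
    J ≤ RingHom.ker (Spec.preimage (Spec.map (pN (Nq J q) M) ≫ Spec.map (cst B M) ≫ q)).hom := fun r hr => by
  have e : Spec.preimage (Spec.map (pN (Nq J q) M) ≫ Spec.map (cst B M) ≫ q) =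
      Spec.preimage q ≫ cst B M ≫ pN (Nq J q) M := Spec.map_injective (by
    rw [Spec.map_preimage, Spec.map_comp, Spec.map_comp, Spec.map_preimage, Category.assoc])
  rw [e, RingHom.mem_ker]
  exact RingHom.mem_ker.1 (map_le_ker (Ideal.mem_map_of_mem _ (Ideal.mem_map_of_mem _ hr)))

theorem prB_red (q : Spec B ⟶ Spec R) (N : Ideal B) (M : Type) [AddCommGroup M] :
    rp q N M ≫ prB q M = rp' q N M ≫ prB q M := by
  apply Over.OverMorphism.ext
  show Spec.map (pN N M) ≫ Spec.map (cst B M) = Spec.map (pN' N M) ≫ Spec.map (cst B M)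
  rw [← Spec.map_comp, ← Spec.map_comp, cst_pN']

theorem isC_comp_yv {J : Ideal R} {f : H ⟶ K} (hf : HomMod J f) (σ : Split H q M) (a : Over.mk q ⟶ H)
    {B' : CommRingCat.{u}} {q' : Spec B' ⟶ Spec R} {M' : Type} [AddCommGroup M'] (e : univSrc q' M' ⟶ univSrc q M)
    (r : Over.mk q' ⟶ Over.mk q) (he : e ≫ prB q M = prB q' M' ≫ r) : IsC (Nq J q') (e ≫ yv σ f a) := by
  show rp _ _ _ ≫ e ≫ _ = rp' _ _ _ ≫ e ≫ _
  rw [← Category.assoc, ← Category.assoc, comp_yv hf σ a (killTo J (redSrc_ker J q' M')),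
    comp_yv hf σ a (killTo J (redSrc_ker J q' M')), Category.assoc (rp _ _ _), Category.assoc (rp' _ _ _), he,
    ← Category.assoc (rp _ _ _), ← Category.assoc (rp' _ _ _), prB_red]

theorem isC_yv {J : Ideal R} {f : H ⟶ K} (hf : HomMod J f) (σ : Split H q M) (a : Over.mk q ⟶ H) :
    IsC (Nq J q) (yv σ f a) := by
  simpa using isC_comp_yv hf σ a (𝟙 (univSrc q M)) (𝟙 _) (by simp)

/-- The averaged value at a point. -/
def V {J : Ideal R} {f : H ⟶ K} (hf : HomMod J f) (hq : J ^ 2 ≤ RingHom.ker (Spec.preimage q).hom)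
    (σ : Split H q M) (a : Over.mk q ⟶ H) : Over.mk q ⟶ K :=
  Mean (Nq_sq hq) (yv σ f a) (isC_yv hf σ a)

variable {J : Ideal R} {f : H ⟶ K} (hf : HomMod J f)

include hf

/-- Changing the universal family. -/
theorem Mean_yv_change (hq : J ^ 2 ≤ RingHom.ker (Spec.preimage q).hom) (σ : Split H q M) (a : Over.mk q ⟶ H)
    {B' : CommRingCat.{u}} {q' : Spec B' ⟶ Spec R} (hq' : J ^ 2 ≤ RingHom.ker (Spec.preimage q').hom)
    {M' : Type} [AddCommGroup M'] (r : Over.mk q' ⟶ Over.mk q) (g : B ⟶ B') (hr : r.left = Spec.map g)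
    (e : univSrc q' M' ⟶ univSrc q M) (θ : BM B M ⟶ BM B' M') (hθ : e.left = Spec.map θ)
    (hs : cst B M ≫ θ = g ≫ cst B' M') (hc : ∀ c : BM B M, (θ.hom c).coeff 1 = g.hom (c.coeff 1))
    (hy : IsC (Nq J q') (e ≫ yv σ f a)) :
    Mean (Nq_sq hq') (e ≫ yv σ f a) hy = r ≫ V hf hq σ a := by
  apply Over.OverMorphism.ext
  show mean (Nq_sq hq') (e ≫ yv σ f a).left hy.isConstMod =
    r.left ≫ mean (Nq_sq hq) (yv σ f a).left (isC_yv hf σ a).isConstMod
  rw [hr]
  refine mean_change _ _ g ?_ θ hs hc _ (by rw [← hθ]; rfl) _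
  refine Ideal.map_le_iff_le_comap.1 (le_of_eq ?_)
  have : Spec.preimage q ≫ g = Spec.preimage q' := Spec.map_injective (by
    rw [Spec.map_comp, Spec.map_preimage, Spec.map_preimage, ← hr]
    exact Over.w r)
  unfold Nq
  rw [Ideal.map_map, ← this]
  rfl

/-- Transport of the family along a map of universal sources. -/
theorem comp_yv_univ (σ : Split H q M) (a : Over.mk q ⟶ H) {B' : CommRingCat.{u}} {q' : Spec B' ⟶ Spec R}
    {M' : Type} [AddCommGroup M'] (σ' : Split H q' M') (r : Over.mk q' ⟶ Over.mk q)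
    (e : univSrc q' M' ⟶ univSrc q M) (he : e ≫ prB q M = prB q' M' ≫ r) (hu : e ≫ uPt σ = uPt σ') :
    e ≫ yv σ f a = yv σ' f (r ≫ a) := by
  simp only [yv, MonObj.comp_mul, GrpObj.comp_inv, ← Category.assoc, he, hu]

/-- The value is independent of the splitting. -/
theorem V_congr_split (hq : J ^ 2 ≤ RingHom.ker (Spec.preimage q).hom) (σ : Split H q M) {M' : Type}
    [AddCommGroup M'] (σ' : Split H q M') (a : Over.mk q ⟶ H) : V hf hq σ' a = V hf hq σ a := by
  obtain ⟨Ψ, hΨ, hGL, -⟩ := AvgPoint.exists_change σ' σ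
  obtain ⟨Ψ', hΨ', -, hkey'⟩ := AvgPoint.exists_change σ σ'
  have hinv : ∀ m, L MonoidAlgebra.singleOneRingHom Ψ' (Ψ m) = MonoidAlgebra.single m 1 := by
    obtain ⟨Ψ₀, hΨ₀, -, hkey⟩ := AvgPoint.exists_change σ' σ
    have e0 : Ψ₀ = Ψ := (σ.pt _ _).injective (hΨ₀.symm.trans hΨ)
    subst e0
    intro m
    have e := hkey _ (cst B M) Ψ'
    rw [← hΨ'] at e
    exact (DFunLike.congr_fun ((σ.pt _ _).injective e) m).symm
  let θ : BM B M ⟶ BM B M' := CommRingCat.ofHom (L MonoidAlgebra.singleOneRingHom Ψ)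
  have hs : cst B M ≫ θ = cst B M' := CommRingCat.hom_ext (L_comp_single _ Ψ)
  let e : univSrc q M' ⟶ univSrc q M := Over.homMk (Spec.map θ) (by
    show Spec.map θ ≫ Spec.map (cst B M) ≫ q = Spec.map (cst B M') ≫ q
    rw [← Category.assoc, ← Spec.map_comp, hs])
  have he : e ≫ prB q M = prB q M' ≫ 𝟙 _ := by
    apply Over.OverMorphism.ext
    show Spec.map θ ≫ Spec.map (cst B M) = Spec.map (cst B M') ≫ 𝟙 _
    rw [← Spec.map_comp, hs, Category.comp_id]
  have hu : e ≫ uPt σ = uPt σ' := by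
    rw [pt_pull σ θ (by rw [← Spec.map_comp, hs]) _ e rfl]
    refine Eq.trans ?_ hΨ.symm
    congr 1
    exact L_comp_of _ Ψ
  have h := comp_yv_univ hf σ a σ' (𝟙 _) e he hu
  rw [Category.id_comp] at h
  have h2 := Mean_yv_change hf hq σ a hq (𝟙 _) (𝟙 B) (by simp) e θ rfl
    (by rw [hs, Category.id_comp]) (fun c => AvgPoint.coeff_one_L Ψ hGL Ψ' hinv c)
    (isC_comp_yv hf σ a e _ he)
  rw [Category.id_comp] at h2
  rw [← h2]
  exact Mean_congr _ h.symm _ _

/-- The value commutes with base change. -/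
theorem V_natural (hq : J ^ 2 ≤ RingHom.ker (Spec.preimage q).hom) (σ : Split H q M) (a : Over.mk q ⟶ H)
    {B' : CommRingCat.{u}} {q' : Spec B' ⟶ Spec R} (hq' : J ^ 2 ≤ RingHom.ker (Spec.preimage q').hom)
    {M' : Type} [AddCommGroup M'] (σ' : Split H q' M') (r : Over.mk q' ⟶ Over.mk q) :
    V hf hq' σ' (r ≫ a) = r ≫ V hf hq σ a := by
  obtain ⟨g, hg⟩ := Spec.map_surjective r.left
  let σc : Split H q' M := σ.comp (Spec.map g) (by rw [hg]; exact Over.w r)
  rw [V_congr_split hf hq' σc σ']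
  let θ : BM B M ⟶ BM B' M := CommRingCat.ofHom (MonoidAlgebra.mapRingHom _ g.hom)
  have hs : cst B M ≫ θ = g ≫ cst B' M := CommRingCat.hom_ext (RingHom.ext fun c => by
    show MonoidAlgebra.mapRingHom _ g.hom (MonoidAlgebra.single 1 c) = MonoidAlgebra.single 1 (g.hom c)
    exact MonoidAlgebra.mapRingHom_single _ _ _)
  have hof : θ.hom.toMonoidHom.comp (MonoidAlgebra.of B (Multiplicative M)) =
      MonoidAlgebra.of B' (Multiplicative M) := MonoidHom.ext fun m => by
    show MonoidAlgebra.mapRingHom _ g.hom (MonoidAlgebra.single m 1) = MonoidAlgebra.single m 1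
    rw [MonoidAlgebra.mapRingHom_single, map_one]
  let e : univSrc q' M ⟶ univSrc q M := Over.homMk (Spec.map θ) (by
    show Spec.map θ ≫ Spec.map (cst B M) ≫ q = Spec.map (cst B' M) ≫ q'
    rw [← Category.assoc, ← Spec.map_comp, hs, Spec.map_comp, Category.assoc, hg]
    exact congrArg (Spec.map (cst B' M) ≫ ·) (Over.w r))
  have he : e ≫ prB q M = prB q' M ≫ r := by
    apply Over.OverMorphism.ext
    show Spec.map θ ≫ Spec.map (cst B M) = Spec.map (cst B' M) ≫ r.left
    rw [← Spec.map_comp, hs, Spec.map_comp, hg]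
  have hu : e ≫ uPt σ = uPt σc := by
    apply Over.OverMorphism.ext
    show Spec.map θ ≫ (σ.pt (BM B M) (Spec.map (cst B M)) _).left =
      𝟙 _ ≫ (σ.pt (BM B' M) (Spec.map (cst B' M) ≫ Spec.map g) _).left
    rw [AvgPoint.tr_comp_pt_left, hof, Category.id_comp]
    have key : ∀ (p p' : Spec (BM B' M) ⟶ Spec B) (χ : Multiplicative M →* BM B' M), p = p' →
        (σ.pt _ p χ).left = (σ.pt _ p' χ).left := by
      rintro p p' χ rfl; rfl
    exact key _ _ _ (by rw [← Spec.map_comp, hs, Spec.map_comp])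
  rw [← Mean_yv_change hf hq σ a hq' r g hg.symm e θ rfl hs
    (fun c => by simp [θ]) (isC_comp_yv hf σ a e r he)]
  exact Mean_congr _ (comp_yv_univ hf σ a σc r e he hu).symm _ _

/-- The value is multiplicative. -/
theorem V_mul (hq : J ^ 2 ≤ RingHom.ker (Spec.preimage q).hom) (σ : Split H q M) (a b : Over.mk q ⟶ H) :
    V hf hq σ (a * b) = V hf hq σ a * V hf hq σ b := by
  let i : Over.mk (Spec.map (𝟙 B) ≫ q) ⟶ Over.mk q := Over.homMk (Spec.map (𝟙 B)) rfl
  obtain ⟨χ, hχ⟩ := (σ.pt B (Spec.map (𝟙 B))).surjective (i ≫ b)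
  have hb : prB q M ≫ b =
      σ.pt (BM B M) (Spec.map (cst B M)) ((cst B M).hom.toMonoidHom.comp χ) := by
    have h1 : Spec.map (cst B M) ≫ Spec.map (𝟙 B) = Spec.map (cst B M) := by
      rw [Spec.map_id, Category.comp_id]
    let e : univSrc q M ⟶ Over.mk (Spec.map (𝟙 B) ≫ q) := Over.homMk (Spec.map (cst B M)) (by
      show Spec.map (cst B M) ≫ Spec.map (𝟙 B) ≫ q = Spec.map (cst B M) ≫ q
      rw [reassoc_of% h1])
    rw [← pt_pull σ (cst B M) h1 χ e rfl, hχ]
    apply Over.OverMorphism.ext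
    show Spec.map (cst B M) ≫ b.left = Spec.map (cst B M) ≫ Spec.map (𝟙 B) ≫ b.left
    rw [reassoc_of% h1]
  let Ψ : Multiplicative M →* BM B M :=
    (cst B M).hom.toMonoidHom.comp χ * MonoidAlgebra.of B (Multiplicative M)
  let θ : BM B M ⟶ BM B M := CommRingCat.ofHom (L MonoidAlgebra.singleOneRingHom Ψ)
  have hs : cst B M ≫ θ = cst B M := CommRingCat.hom_ext (L_comp_single _ Ψ)
  have hc : ∀ c : BM B M, (θ.hom c).coeff 1 = c.coeff 1 := fun c => by
    classical
    show (L MonoidAlgebra.singleOneRingHom Ψ c).coeff 1 = _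
    induction c using MonoidAlgebra.induction_linear with
    | zero => simp
    | add v w hv hw => simp only [map_add, MonoidAlgebra.coeff_add, Finsupp.add_apply, hv, hw]
    | single m r =>
      rw [L_single]
      by_cases hm : m = 1
      · subst hm; simp [MonoidAlgebra.one_def]
      · simp [Ψ, AvgPoint.s1, MonoidAlgebra.single_mul_single, Finsupp.single_apply, hm]
  let e : univSrc q M ⟶ univSrc q M := Over.homMk (Spec.map θ) (by
    show Spec.map θ ≫ Spec.map (cst B M) ≫ q = Spec.map (cst B M) ≫ q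
    rw [← Category.assoc, ← Spec.map_comp, hs])
  have he : e ≫ prB q M = prB q M ≫ 𝟙 _ := by
    apply Over.OverMorphism.ext
    show Spec.map θ ≫ Spec.map (cst B M) = Spec.map (cst B M) ≫ 𝟙 _
    rw [← Spec.map_comp, hs, Category.comp_id]
  have hu : e ≫ uPt σ = (prB q M ≫ b) * uPt σ := by
    rw [pt_pull σ θ (by rw [← Spec.map_comp, hs]) _ e rfl, hb, ← map_mul]
    congr 1
    exact L_comp_of _ Ψ
  have hy : IsC (Nq J q) (e ≫ yv σ f a) := isC_comp_yv hf σ a e (𝟙 _) he
  have hy' : yv σ f (a * b) = (e ≫ yv σ f a) * yv σ f b := by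
    simp only [yv, MonObj.comp_mul, GrpObj.comp_inv, ← Category.assoc, he, hu, Category.comp_id]
    rw [_root_.mul_assoc (prB q M ≫ a)]
    group
  have h2 := Mean_yv_change hf hq σ a hq (𝟙 _) (𝟙 B) (by simp) e θ rfl (by rw [hs, Category.id_comp]) hc hy
  rw [Category.id_comp] at h2
  rw [← h2]
  show Mean _ (yv σ f (a * b)) _ = _ * Mean _ (yv σ f b) _
  rw [← Mean_mul]
  exact Mean_congr _ hy' _ _

/-- Modulo `J` the value is the given map. -/
theorem V_red (hq : J ^ 2 ≤ RingHom.ker (Spec.preimage q).hom) (σ : Split H q M) (a : Over.mk q ⟶ H)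
    (hq₁ : J ≤ RingHom.ker (Spec.preimage q).hom) : V hf hq σ a = a ≫ f := by
  apply Over.OverMorphism.ext
  have h := mean_red (Nq_sq hq) (isC_yv hf σ a).isConstMod (𝟙 B) (Ideal.map_le_iff_le_comap.2 fun r hr => hq₁ hr)
  rw [Spec.map_id, Category.id_comp, Category.id_comp] at h
  show mean (Nq_sq hq) (yv σ f a).left (isC_yv hf σ a).isConstMod = _
  rw [h]
  let e : Over.mk q ⟶ univSrc q M := Over.homMk (Spec.map (eps B M)) (by
    show Spec.map (eps B M) ≫ Spec.map (cst B M) ≫ q = q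
    rw [← Category.assoc, ← Spec.map_comp, cst_eps, Spec.map_id, Category.id_comp])
  have he : e ≫ prB q M = 𝟙 _ := by
    apply Over.OverMorphism.ext
    show Spec.map (eps B M) ≫ Spec.map (cst B M) = 𝟙 _
    rw [← Spec.map_comp, cst_eps, Spec.map_id]
  have := comp_yv hf σ a (killTo J hq₁) e
  rw [he, Category.id_comp] at this
  exact congrArg CommaMorphism.left this

end Groth.Agent.AvgMap
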